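import Groth.Agent.H26.AffCompl.Reflect
import Groth.Agent.Frg7.Basic

/-!
# Completion of finite modules over algebras topologically of finite type
-/

noncomputable section

set_option autoImplicit false
set_option maxHeartbeats 400000
set_option linter.style.haveILetI false
set_option backward.isDefEq.respectTransparency false
set_option backward.isDefEq.respectTransparency.types false

universe u

open CategoryTheory CategoryTheory.Limits AlgebraicGeometry

namespace Groth.Agent.H26.AffCompl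

variable {A : Type u} [CommRing A] {J : Ideal A} {𝔛 : FSch.Sys.{u}} (h : 𝔛.IsFormal)
  (D : FComplLib.AffData A J 𝔛)

/-- Maps of systems isomorphic to completions, given by a linear map. -/
def IsOver' {L L' : ModuleCat.{u} A} (u : L ⟶ L') {𝔐 𝔐' : FSch.ModSys 𝔛} (φ : 𝔐 ⟶ 𝔐') : Prop :=
  ∀ n, HEq ((φ : FSch.ModSys.Hom _ _).app n)
    ((Scheme.Modules.pullback (D.p n)).map ((tilde.functor (CommRingCat.of A)).map u))

theorem bijective' {L L' : ModuleCat.{u} A} [Module.Finite A L] [IsAdicComplete J L'] {𝔐 𝔐' : FSch.ModSys 𝔛}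
    (hM : D.sys L = 𝔐) (hM' : D.sys L' = 𝔐') (f : (L ⟶ L') → (𝔐 ⟶ 𝔐')) (hf : ∀ u, IsOver' D u (f u)) :
    Function.Bijective fun u => FSch.ModSys.realModMap h (f u) := by
  subst hM hM'
  exact bijective_realModMap h D f fun u n => eq_of_heq (hf u n)

theorem shortExact' (hAR : Frg7.HasAR J) {L L' L'' : ModuleCat.{u} A} [Module.Finite A L] [Module.Finite A L']
    {𝔐 𝔐' 𝔐'' : FSch.ModSys 𝔛} (hM : D.sys L = 𝔐) (hM' : D.sys L' = 𝔐') (hM'' : D.sys L'' = 𝔐'')
    {u : L ⟶ L'} {v : L' ⟶ L''} (φ : 𝔐 ⟶ 𝔐') (ψ : 𝔐' ⟶ 𝔐'') (hφ : IsOver' D u φ) (hψ : IsOver' D v ψ)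
    (hu : Function.Injective u.hom) (hv : Function.Surjective v.hom) (he : Function.Exact u.hom v.hom) :
    ∃ w : FSch.ModSys.realModMap h φ ≫ FSch.ModSys.realModMap h ψ = 0, (ShortComplex.mk _ _ w).ShortExact := by
  subst hM hM' hM''
  exact shortExact_realModMap h D hAR (fun n => eq_of_heq (hφ n)) (fun n => eq_of_heq (hψ n)) hu hv he

theorem reflect' (hJ : J ≤ Ideal.jacobson ⊥) {L L' L'' : ModuleCat.{u} A} [IsAdicComplete J L]
    [IsAdicComplete J L'] [IsAdicComplete J L''] [Module.Finite A L'']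
    {𝔐 𝔐' 𝔐'' : FSch.ModSys 𝔛} (hM : D.sys L = 𝔐) (hM' : D.sys L' = 𝔐') (hM'' : D.sys L'' = 𝔐'')
    {u : L ⟶ L'} {v : L' ⟶ L''} (φ : 𝔐 ⟶ 𝔐') (ψ : 𝔐' ⟶ 𝔐'') (hφ : IsOver' D u φ) (hψ : IsOver' D v ψ)
    (hΔ : ∃ w : FSch.ModSys.realModMap h φ ≫ FSch.ModSys.realModMap h ψ = 0, (ShortComplex.mk _ _ w).ShortExact) :
    ∃ w : u ≫ v = 0, (ShortComplex.mk u v w).ShortExact := by
  subst hM hM' hM''
  exact shortExact_of_realModMap hJ (fun n => eq_of_heq (hφ n)) (fun n => eq_of_heq (hψ n)) hΔ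

lemma isOver'_compl (J : Ideal A) {L L' : ModuleCat.{u} A} (u : L ⟶ L') :
    IsOver' (FComplLib.complData A J) u
      (FSch.complModMap (FSch.idealSpec A J) ((tilde.functor (CommRingCat.of A)).map u)) :=
  fun _ => HEq.rfl

section Tft

variable {R : Type u} [CommRing R] {I : Ideal R} (hR : AdicRing.IsBase R I)
  {B : Type u} [CommRing B] [Algebra R B] (hB : AdicRing.TopFiniteType R I B)

include hR hB in
theorem isAdicComplete_map (M : ModuleCat.{u} B) [Module.Finite B M] :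
    IsAdicComplete (I.map (algebraMap R B)) M := by
  letI : Module R M := Module.compHom M (algebraMap R B)
  haveI : IsScalarTower R B M := IsScalarTower.of_algebraMap_smul fun _ _ => rfl
  exact (IsAdicComplete.map_algebraMap_iff I M).mpr (Frg7.isAdicComplete hR hB M)

include hR hB in
theorem hasAR_map : Frg7.HasAR (I.map (algebraMap R B)) := (Frg7.nice hR hB).hasAR

end Tft

end Groth.Agent.H26.AffCompl
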