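import Groth.Agent.H26.AffCompl.ToReal
import Groth.Agent.H26.AffCompl.Compl
import Groth.Agent.QCoh.FT

/-!
# Finitely presented modules on the completion of an algebra topologically of finite presentation
-/

noncomputable section

set_option autoImplicit false
set_option maxHeartbeats 400000
set_option linter.style.haveILetI false
set_option backward.isDefEq.respectTransparency false
set_option backward.isDefEq.respectTransparency.types false

universe u

open CategoryTheory CategoryTheory.Limits TopologicalSpace Opposite AlgebraicGeometry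
open Groth.Agent.ModTensor Groth.Agent.ModPull
open Groth.Agent.H26.FMod

namespace Groth.Agent.H26.AffCompl

variable {A : Type u} [CommRing A] {J : Ideal A} {𝔛 : FSch.Sys.{u}} (D : FComplLib.AffData A J 𝔛)

/-- The limit of the global sections of the levels. -/
theorem exists_limit_fg [IsAdicComplete J A] (hJ : J.FG) (𝔐 : FSch.ModSys 𝔛)
    (h𝔐 : 𝔐.IsCoh) :
    ∃ (L : ModuleCat.{u} A) (π : ∀ n, L →+ Γ(𝔐.F n, ⊤)), Module.Finite A L ∧
      (∀ n a x, π n (a • x) = D.σ n a • π n x) ∧ (∀ n x, FComplLib.AffData.trans 𝔐 n (π (n + 1) x) = π n x) ∧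
      (∀ n, Function.Surjective (π n)) ∧
      ∀ n x, π n x = 0 ↔ x ∈ J ^ (n + 1) • (⊤ : Submodule A L) := by
  let M : ℕ → Type u := fun n => Γ(𝔐.F n, ⊤)
  letI : ∀ n, AddCommGroup (M n) := fun n => inferInstanceAs (AddCommGroup Γ(𝔐.F n, ⊤))
  letI : ∀ n, Module A (M n) := fun n => Module.compHom Γ(𝔐.F n, ⊤) (D.σ n)
  let f : ∀ n, M (n + 1) →ₗ[A] M n := fun n =>
    { toFun := FComplLib.AffData.trans 𝔐 n
      map_add' := FComplLib.AffData.trans_add 𝔐 n
      map_smul' := D.trans_smul 𝔐 n }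
  have hker : ∀ n, LinearMap.ker (f n) = J ^ (n + 1) • (⊤ : Submodule A (M (n + 1))) := fun n => by
    refine SetLike.ext fun x => Iff.trans (D.trans_eq_zero_iff 𝔐 h𝔐 n x) ⟨fun h => ?_, fun h => ?_⟩
    · obtain ⟨y, hy, rfl⟩ := FComplLib.exists_mem_smul_top (R := A) (M := M (n + 1)) (D.σ (n + 1))
        (D.σ_surjective (n + 1)) (AddMonoidHom.id _) Function.surjective_id (fun _ _ => rfl) _ h
      exact hy
    · exact FComplLib.map_mem_smul_top (R := A) (M := M (n + 1)) (P := Γ(𝔐.F (n + 1), ⊤)) (D.σ (n + 1))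
        (AddMonoidHom.id _) (fun _ _ => rfl) _ h
  let L : Submodule A (∀ n, M n) :=
    { carrier := {x | ∀ n, f n (x (n + 1)) = x n}
      zero_mem' := fun n => map_zero _
      add_mem' := fun {x y} hx hy n => by rw [Pi.add_apply, map_add, hx n, hy n]; rfl
      smul_mem' := fun a x hx n => by rw [Pi.smul_apply, map_smul, hx n]; rfl }
  let π : ∀ n, L →ₗ[A] M n := fun n => (LinearMap.proj n).comp L.subtype
  obtain ⟨-, hπ, hfin⟩ := Adic7.limit_quotient_system A J hJ M f
    (fun n => D.trans_surjective 𝔐 h𝔐 n) hker L π (fun n => LinearMap.ext fun x => x.2 n)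
    (fun x hx => Subtype.ext (funext hx)) (fun y hy => ⟨⟨y, hy⟩, fun n => rfl⟩)
  have hM0 : Module.Finite A (M 0) := by
    have := QCoh.finite_sections (h𝔐 0) (@isAffineOpen_top _ (D.isAffine 0))
    obtain ⟨s, hs⟩ := this.fg_top
    refine ⟨⟨s, eq_top_iff.mpr fun x _ => ?_⟩⟩
    have key : ∀ z : Γ(𝔐.F 0, ⊤), z ∈ Submodule.span Γ(𝔛.X 0, ⊤) (s : Set Γ(𝔐.F 0, ⊤)) →
        (show M 0 from z) ∈ Submodule.span A ((s : Set Γ(𝔐.F 0, ⊤)) : Set (M 0)) := by
      intro z hz
      induction hz using Submodule.span_induction with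
      | mem y hy => exact Submodule.subset_span hy
      | zero => exact Submodule.zero_mem _
      | add y w _ _ hy hw => exact Submodule.add_mem _ hy hw
      | smul c y _ hy =>
        obtain ⟨a, rfl⟩ := D.σ_surjective 0 c
        exact Submodule.smul_mem _ a hy
    exact key x (by rw [hs]; trivial)
  refine ⟨ModuleCat.of A L, fun n => (π n).toAddMonoidHom, hfin inferInstance hM0, fun n a x => rfl,
    fun n x => x.2 n, fun n => (hπ n).1, fun n x => ?_⟩
  exact (LinearMap.mem_ker (f := π n)).symm.trans (SetLike.ext_iff.mp (hπ n).2 x)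

/-- A system is the completion of its limit. -/
theorem nonempty_iso_sys_of_limit (𝔐 : FSch.ModSys 𝔛) (h𝔐 : 𝔐.IsCoh) (L : ModuleCat.{u} A)
    (π : ∀ n, L →+ Γ(𝔐.F n, ⊤)) (hsmul : ∀ n a x, π n (a • x) = D.σ n a • π n x)
    (htrans : ∀ n x, FComplLib.AffData.trans 𝔐 n (π (n + 1) x) = π n x) (hsurj : ∀ n, Function.Surjective (π n))
    (hker : ∀ n x, π n x = 0 ↔ x ∈ J ^ (n + 1) • (⊤ : Submodule A L)) : Nonempty (𝔐 ≅ D.sys L) := by
  have hφ : ∀ n, ∃ φ : (D.sys L).F n ⟶ 𝔐.F n, ∀ x, φ.app ⊤ (D.sec L n x) = π n x := by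
    intro n
    let adj := Scheme.Modules.pullbackPushforwardAdjunction (D.p n)
    let P : (Spec (CommRingCat.of A)).Modules := (Scheme.Modules.pushforward (D.p n)).obj (𝔐.F n)
    obtain ⟨ψ, hψ⟩ := FComplLib.exists_hom_tilde L P (π n) (fun a x => hsmul n a x)
    obtain ⟨φ, hφ⟩ := (adj.homEquiv _ _).surjective ψ
    refine ⟨φ, fun x => Eq.trans ?_ (hψ x)⟩
    exact congrArg (fun f => Scheme.Modules.Hom.app f ⊤ (FComplLib.θ L x))
      ((Adjunction.homEquiv_unit adj _ _ φ).symm.trans hφ)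
  choose φ hφ using hφ
  have hiso : ∀ n, IsIso (φ n) := fun n => by
    have := D.isAffine n
    refine FComplLib.isIso_of_bijective_app_top (D.isQCoh_level L n) (h𝔐 n).1 _
      ⟨(injective_iff_map_eq_zero _).mpr fun z hz => ?_, fun y => ?_⟩
    · obtain ⟨x, rfl⟩ := D.sec_surjective L n z
      exact (D.sec_eq_zero_iff L n x).2 ((hker n x).1 ((hφ n x).symm.trans hz))
    · obtain ⟨x, rfl⟩ := hsurj n y
      exact ⟨_, hφ n x⟩
  have hcomm : ∀ n, (Scheme.Modules.pullback (𝔛.ι n)).map (φ (n + 1)) ≫ (𝔐.e n).hom =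
      ((D.sys L).e n).hom ≫ φ n := by
    intro n
    have := D.isAffine n
    have := D.isAffine (n + 1)
    have := D.cl (n + 1)
    have : IsClosedImmersion (𝔛.ι n ≫ D.p (n + 1)) := by rw [D.comm]; exact D.cl n
    have := IsClosedImmersion.of_comp (𝔛.ι n) (D.p (n + 1))
    refine FComplLib.hom_ext_top (QCoh.isQCoh_pullback _ (D.isQCoh_level L (n + 1))) (h𝔐 n).1 _ _ fun z => ?_
    obtain ⟨w, rfl⟩ := (QCoh.unit_app_closed (𝔛.ι n) (D.isQCoh_level L (n + 1))
      (isAffineOpen_top _)).1 z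
    obtain ⟨x, rfl⟩ := D.sec_surjective L (n + 1) w
    change (𝔐.e n).hom.app ⊤ (((Scheme.Modules.pullback (𝔛.ι n)).map (φ (n + 1))).app ⊤
        (FComplLib.pullTop (𝔛.ι n) _ (D.sec L (n + 1) x))) =
      (φ n).app ⊤ (FComplLib.AffData.trans (D.sys L) n (D.sec L (n + 1) x))
    rw [D.trans_sec, hφ, FComplLib.pullTop_naturality, hφ]
    exact htrans n x
  let Φ : D.sys L ⟶ 𝔐 := ⟨φ, hcomm⟩
  refine ⟨(Iso.symm ⟨Φ, ⟨fun n => inv (φ n), fun n => ?_⟩, ?_, ?_⟩)⟩
  · rw [Functor.map_inv, IsIso.inv_comp_eq, ← Category.assoc, hcomm n, Category.assoc,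
      IsIso.hom_inv_id, Category.comp_id]
  · exact FSch.ModSys.Hom.ext (funext fun n => IsIso.hom_inv_id _)
  · exact FSch.ModSys.Hom.ext (funext fun n => IsIso.inv_hom_id _)

/-- Composites of maps of systems. -/
lemma realModMap_comp (h : 𝔛.IsFormal) {𝔐 𝔐' 𝔐'' : FSch.ModSys 𝔛} (φ : 𝔐 ⟶ 𝔐') (ψ : 𝔐' ⟶ 𝔐'') :
    FSch.ModSys.realModMap h (φ ≫ ψ) = FSch.ModSys.realModMap h φ ≫ FSch.ModSys.realModMap h ψ :=
  (fg (𝔛.Osh h)).map_injective (PresheafOfModules.hom_ext fun U => ModuleCat.hom_ext (LinearMap.ext fun s => by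
    refine qm_ext _ U.unop fun n => ?_
    refine (qm_ev h (φ ≫ ψ) n U.unop s).trans ?_
    refine Eq.trans ?_ (qm_ev h ψ n U.unop _).symm
    exact congrArg _ (qm_ev h φ n U.unop s).symm))

/-- Identity maps of systems. -/
lemma realModMap_id (h : 𝔛.IsFormal) (𝔐 : FSch.ModSys 𝔛) : FSch.ModSys.realModMap h (𝟙 𝔐) = 𝟙 _ :=
  (fg (𝔛.Osh h)).map_injective (PresheafOfModules.hom_ext fun U => ModuleCat.hom_ext (LinearMap.ext fun s => by
    refine qm_ext _ U.unop fun n => ?_
    exact qm_ev h (𝟙 𝔐) n U.unop s))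

/-- Isomorphic systems have isomorphic modules. -/
def realModIso (h : 𝔛.IsFormal) {𝔐 𝔐' : FSch.ModSys 𝔛} (e : 𝔐 ≅ 𝔐') : 𝔐.realMod h ≅ 𝔐'.realMod h where
  hom := FSch.ModSys.realModMap h e.hom
  inv := FSch.ModSys.realModMap h e.inv
  hom_inv_id := by rw [← realModMap_comp, e.hom_inv_id, realModMap_id]
  inv_hom_id := by rw [← realModMap_comp, e.inv_hom_id, realModMap_id]

/-- The elements of a quotient by a power of the ideal are a finitely presented module. -/
lemma fg_ker_of_level (hJ : J.FG) (n : ℕ) {F : (𝔛.X n).Modules} (hF : CohB1.IsFP F) {s : ℕ}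
    (p : (Fin s → A) →+ Γ(F, ⊤)) (hp : ∀ a x, p (a • x) = D.σ n a • p x) (hps : Function.Surjective p) :
    ∃ G : Submodule A (Fin s → A), G.FG ∧ ∀ x, x ∈ G ↔ p x = 0 := by
  haveI := D.isAffine n
  haveI := QCoh.finitePresentation_of_isFP hF (isAffineOpen_top (𝔛.X n))
  letI : Algebra A Γ(𝔛.X n, ⊤) := (D.σ n).toAlgebra
  letI : Module A Γ(F, ⊤) := Module.compHom Γ(F, ⊤) (D.σ n)
  haveI : IsScalarTower A Γ(𝔛.X n, ⊤) Γ(F, ⊤) := IsScalarTower.of_algebraMap_smul fun _ _ => rfl
  haveI : Module.FinitePresentation A Γ(𝔛.X n, ⊤) :=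
    Module.finitePresentation_of_surjective (Algebra.linearMap A Γ(𝔛.X n, ⊤)) (D.σ_surjective n) (by
      have : LinearMap.ker (Algebra.linearMap A Γ(𝔛.X n, ⊤)) = J ^ (n + 1) :=
        SetLike.ext fun a => ⟨fun ha => mem_of_σ_eq_zero D ha, fun ha => σ_eq_zero D ha⟩
      rw [this]
      exact hJ.pow)
  haveI : Module.FinitePresentation A Γ(F, ⊤) := Module.FinitePresentation.trans (R := A) (M := Γ(F, ⊤)) Γ(𝔛.X n, ⊤)
  let l : (Fin s → A) →ₗ[A] Γ(F, ⊤) := { toFun := p, map_add' := map_add p, map_smul' := hp }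
  exact ⟨LinearMap.ker l, Module.FinitePresentation.fg_ker l hps, fun x => Iff.rfl⟩

section Tft

variable {R : Type u} [CommRing R] {I : Ideal R} {B : Type u} [CommRing B] [Algebra R B]

/-- Finite modules with finitely presented quotients are finitely presented. -/
theorem finitePresentation_of_quot (hN : Frg7.Nice I B) (hI : I.FG) (L : ModuleCat.{u} B) [Module.Finite B L]
    (hq : ∀ (n s : ℕ) (p : (Fin s → B) →ₗ[B] L), Function.Surjective p →
      ∃ G : Submodule B (Fin s → B), G.FG ∧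
        ∀ x, x ∈ G ↔ p x ∈ (I.map (algebraMap R B)) ^ (n + 1) • (⊤ : Submodule B L)) :
    Module.FinitePresentation B L := by
  classical
  obtain ⟨hsat, hN | ⟨t, rfl⟩⟩ := hN
  · exact Module.finitePresentation_of_finite _ _
  obtain ⟨s, p, hp⟩ := Module.Finite.exists_fin' B L
  refine Module.finitePresentation_of_surjective p hp ?_
  obtain ⟨c, hc⟩ := hsat.exists_pow_smul_satClosure_le hI (LinearMap.ker p)
  obtain ⟨G, hGfg, hG⟩ := hq c s p hp
  obtain ⟨r, g, hg⟩ := Submodule.fg_iff_exists_fin_generating_family.1 hGfg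
  let τ : B := algebraMap R B t ^ (c + 1)
  have hdec : ∀ i, ∃ w, g i - τ • w ∈ LinearMap.ker p := fun i => by
    have h1 := (hG (g i)).1 (hg ▸ Submodule.subset_span ⟨i, rfl⟩)
    rw [Ideal.map_span, Set.image_singleton, Ideal.span_singleton_pow] at h1
    obtain ⟨y, -, hy⟩ := Frg7.mem_span_singleton_smul' (R := B) h1
    obtain ⟨w, rfl⟩ := hp y
    exact ⟨w, by rw [LinearMap.mem_ker, map_sub, map_smul, hy, sub_self]⟩
  choose w hw using hdec
  let S := Frg7.satClosure (Ideal.span {t}) (LinearMap.ker p)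
  have hSfg : S.FG := hsat.fg S (Frg7.isSat_satClosure hI _)
  have hτS : ∀ x ∈ S, τ • x ∈ LinearMap.ker p := fun x hx => by
    have := hc (t ^ (c + 1)) (Ideal.pow_le_pow_right (Nat.le_succ c)
      (Ideal.pow_mem_pow (Ideal.mem_span_singleton_self t) (c + 1))) x hx
    rwa [← algebraMap_smul B, map_pow] at this
  have key : LinearMap.ker p = Submodule.span B (Set.range fun i => g i - τ • w i) ⊔
      S.map (LinearMap.lsmul B (Fin s → B) τ) := by
    refine le_antisymm (fun x hx => ?_) (sup_le (Submodule.span_le.2 (Set.range_subset_iff.2 hw))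
      (Submodule.map_le_iff_le_comap.2 hτS))
    obtain ⟨d, hd⟩ := (Submodule.mem_span_range_iff_exists_fun _).1
      (hg ▸ (hG x).2 (by rw [LinearMap.mem_ker.1 hx]; exact zero_mem _) : x ∈ Submodule.span B (Set.range g))
    have h1 : x = ∑ i, d i • (g i - τ • w i) + τ • ∑ i, d i • w i := by
      simp only [smul_sub, Finset.sum_sub_distrib, Finset.smul_sum, smul_comm τ, hd, sub_add_cancel]
    have h2 : τ • ∑ i, d i • w i ∈ LinearMap.ker p :=
      (Submodule.add_mem_iff_right _ (Submodule.sum_mem _ fun i _ => Submodule.smul_mem _ (d i) (hw i))).1 (h1 ▸ hx)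
    rw [h1]
    refine Submodule.add_mem_sup (Submodule.sum_mem _ fun i _ => Submodule.smul_mem _ _
      (Submodule.subset_span ⟨i, rfl⟩)) (Submodule.mem_map_of_mem (f := LinearMap.lsmul B (Fin s → B) τ) ?_)
    refine ⟨c + 1, fun a ha => ?_⟩
    rw [Ideal.span_singleton_pow, Ideal.mem_span_singleton'] at ha
    obtain ⟨e, rfl⟩ := ha
    rw [← algebraMap_smul B, map_mul, map_pow, mul_smul]
    exact Submodule.smul_mem _ _ h2
  rw [key]
  exact Submodule.FG.sup (Submodule.fg_span (Set.finite_range _)) (hSfg.map _)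

variable {h : 𝔛.IsFormal} (D' : FComplLib.AffData B (I.map (algebraMap R B)) 𝔛)

include D' in
/-- Finitely presented modules on the completion come from finitely presented modules. -/
theorem exists_iso_realMod (hR : AdicRing.IsBase R I) (hB : AdicRing.TopFiniteType R I B)
    (F : FSch.ModF 𝔛 h) (hF : FSch.IsCohF 𝔛 h F) :
    ∃ L : ModuleCat.{u} B, Module.FinitePresentation B L ∧ Nonempty (F ≅ (D'.sys L).realMod h) := by
  have hI := Frg7.IsBase.fg hR
  haveI : IsAdicComplete (I.map (algebraMap R B)) B :=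
    (IsAdicComplete.map_algebraMap_iff I B).mpr (Frg7.isAdicComplete hR hB B)
  have h𝔐 : (sysOf h F).IsCoh := fun k => isCoh_pullK k F hF
  obtain ⟨L, π, hfin, hsmul, htrans, hsurj, hker⟩ := exists_limit_fg D' (hI.map _) (sysOf h F) h𝔐
  obtain ⟨e⟩ := nonempty_iso_sys_of_limit D' (sysOf h F) h𝔐 L π hsmul htrans hsurj hker
  haveI := isIso_toReal h D' hR hB hF
  refine ⟨L, ?_, ⟨asIso (toReal h F) ≪≫ realModIso h e⟩⟩
  refine finitePresentation_of_quot (Frg7.nice hR hB) hI L fun n s p hp => ?_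
  haveI := hF
  have hFP : CohB1.IsFP ((sysOf h F).F n) := PullQc.isFinitePresentation_pull (FSch.levelMor 𝔛 h n) F
  obtain ⟨G, hG, hG'⟩ := fg_ker_of_level D' (hI.map _) n hFP ((π n).comp p.toAddMonoidHom)
    (fun a x => by
      show π n (p (a • x)) = _
      rw [map_smul, hsmul]
      rfl) ((hsurj n).comp hp)
  exact ⟨G, hG, fun x => (hG' x).trans (hker n (p x))⟩

end Tft

end Groth.Agent.H26.AffCompl
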