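import Groth.Agent.H26.AffCompl.Hom
import Groth.Agent.Frg7.Completion
import Mathlib.RingTheory.Nakayama
import Mathlib.Algebra.Homology.ShortComplex.ShortExact

/-!
# Exactness of completion on modules
-/

noncomputable section

set_option autoImplicit false
set_option maxHeartbeats 400000
set_option linter.style.haveILetI false
set_option backward.isDefEq.respectTransparency false
set_option backward.isDefEq.respectTransparency.types false

universe u

open CategoryTheory CategoryTheory.Limits TopologicalSpace Opposite AlgebraicGeometry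
open Groth.Agent.ModTensor Groth.Agent.ModPull
open Groth.Agent.H26.FMod Groth.Agent.H26.FMod.HomSec

namespace Groth.Agent.H26.AffCompl

variable {A : Type u} [CommRing A] {J : Ideal A}
variable {𝔛 : FSch.Sys.{u}} (h : 𝔛.IsFormal) (D : FComplLib.AffData A J 𝔛)
variable {L L' L'' : ModuleCat.{u} A} {u : L ⟶ L'} {v : L' ⟶ L''} {φ : D.sys L ⟶ D.sys L'} {ψ : D.sys L' ⟶ D.sys L''}

/-- Almost preimages of elements deep in the filtration are deep. -/
lemma exists_ar (hAR : Frg7.HasAR J) [Module.Finite A L'] (hu : Function.Injective u.hom) :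
    ∃ k, ∀ n x, u.hom x ∈ J ^ (n + k + 1) • (⊤ : Submodule A L') → x ∈ J ^ (n + 1) • (⊤ : Submodule A L) := by
  obtain ⟨k, hk⟩ := hAR L' (LinearMap.range u.hom)
  refine ⟨k, fun n x hx => ?_⟩
  have h1 := hk (n + 1) ⟨by rwa [show n + 1 + k = n + k + 1 by omega], LinearMap.mem_range_self u.hom x⟩
  rw [Frg7.map_smul_top, Submodule.mem_map] at h1
  obtain ⟨y, hy, hy'⟩ := h1
  exact hu hy' ▸ hy

lemma sL_pow (b : A) (N : ℕ) (n : ℕ) (x : L) : qm h (D.sys L) n (Ub D b) (sL h D L (Ub D b) (b ^ N • x)) =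
    pr h n (Ub D b) (aU h D (Ub D b) b) ^ N • qm h (D.sys L) n (Ub D b) (sL h D L (Ub D b) x) := by
  rw [sL_smul, qm_smul, map_pow, map_pow]

variable {h D}

/-- The map on a level kills the elements with an almost vanishing image. -/
lemma qm_sL_zero_of_image (hφ : IsOver D u φ) {k : ℕ}
    (hk : ∀ n x, u.hom x ∈ J ^ (n + k + 1) • (⊤ : Submodule A L') → x ∈ J ^ (n + 1) • (⊤ : Submodule A L))
    (b : A) (n : ℕ) (x : L) (hx : qm h (D.sys L') (n + k) (Ub D b) (sL h D L' (Ub D b) (u.hom x)) = 0) :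
    qm h (D.sys L) n (Ub D b) (sL h D L (Ub D b) x) = 0 := by
  obtain ⟨N, hN⟩ := exists_den h D L' b (n + k) _ hx
  rw [← map_smul] at hN
  have h1 := qm_sL_eq_zero h D L b (hk n _ hN)
  rw [sL_pow] at h1
  exact cancel_pow h D L b (k := N) (h1.trans (smul_zero _).symm)

/-- Completion preserves monomorphisms. -/
theorem mono_realModMap (hAR : Frg7.HasAR J) [Module.Finite A L'] (hφ : IsOver D u φ)
    (hu : Function.Injective u.hom) : Mono (FSch.ModSys.realModMap h φ) := by
  obtain ⟨k, hk⟩ := exists_ar (u := u) hAR hu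
  refine mono_of_locally _ fun V s hs => locally_Ub D V
    (fun W g => rz ((D.sys L).realMod h) g s = 0) (fun b hb => ?_) (fun W W' g g' hg => ?_) h
  · let t := rz ((D.sys L).realMod h) (homOfLE hb) s
    have ht : ev (FSch.ModSys.realModMap h φ) (Ub D b) t = 0 := by
      rw [ev_res, hs]
      exact rz_zero _ _
    refine qm_ext _ _ fun n => ?_
    rw [map_zero]
    obtain ⟨p, x, hx⟩ := exists_approx h D L b (n + k) t
    have h1 := qm_ev_zero h φ hx
    rw [map_sub (ev _ _), map_smul, ht, smul_zero, ev_sL hφ, zero_sub, map_neg, neg_eq_zero] at h1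
    have h2 := qm_sL_zero_of_image hφ hk b n x h1
    have h3 := qm_eq_zero_of_le h D L b (Nat.le_add_right n k) hx
    rw [map_sub, h2, sub_zero, qm_pow_smul] at h3
    exact cancel_pow h D L b (h3.trans (smul_zero _).symm)
  · rw [rz_comp, hg]
    exact rz_zero _ _

/-- Completion preserves surjectivity. -/
theorem epi_realModMap [Module.Finite A L'] (hψ : IsOver D v ψ) (hv : Function.Surjective v.hom) :
    Epi (FSch.ModSys.realModMap h ψ) := by
  classical
  obtain ⟨r, x, hx⟩ := Submodule.fg_iff_exists_fin_generating_family.1 (‹Module.Finite A L'›).fg_top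
  have hx' : Submodule.span A (Set.range fun i => v.hom (x i)) = ⊤ := by
    rw [Set.range_comp' (fun y => v.hom y) x, ← Submodule.map_span, hx, Submodule.map_top, LinearMap.range_eq_top.2 hv]
  refine epi_of_locally _ fun V y => locally_Ub D V
    (fun W g => ∃ s, ev (FSch.ModSys.realModMap h ψ) W s = rz ((D.sys L'').realMod h) g y) (fun b hb => ?_)
    (fun W W' g g' hg => ?_) h
  · obtain ⟨C, hC⟩ := exists_coeff h D L'' b _ hx' (rz ((D.sys L'').realMod h) (homOfLE hb) y)
    refine ⟨∑ i, C i • sL h D L' (Ub D b) (x i), ?_⟩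
    rw [hC, map_sum]
    exact Finset.sum_congr rfl fun i _ => by rw [map_smul, ev_sL hψ]
  · obtain ⟨s, hs⟩ := hg
    exact ⟨rz _ g s, by rw [ev_res, hs, rz_comp]⟩

/-- A section on a level which approximates a preimage of `t`. -/
def IsPre (u : L ⟶ L') (k : ℕ) (b : A) (t : Sec ((D.sys L').realMod h) (Ub D b)) (n : ℕ)
    (c : Sm h (D.sys L) n (Ub D b)) : Prop :=
  ∃ (N : ℕ) (y : L),
    qm h (D.sys L') (n + k) (Ub D b) (aU h D (Ub D b) b ^ N • t - sL h D L' (Ub D b) (u.hom y)) = 0 ∧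
      pr h n (Ub D b) (aU h D (Ub D b) b) ^ N • c = qm h (D.sys L) n (Ub D b) (sL h D L (Ub D b) y)

lemma IsPre.unique (hφ : IsOver D u φ) {k : ℕ}
    (hk : ∀ n x, u.hom x ∈ J ^ (n + k + 1) • (⊤ : Submodule A L') → x ∈ J ^ (n + 1) • (⊤ : Submodule A L))
    {b : A} {t : Sec ((D.sys L').realMod h) (Ub D b)} {n : ℕ} {c c' : Sm h (D.sys L) n (Ub D b)}
    (hc : IsPre u k b t n c) (hc' : IsPre u k b t n c') : c = c' := by
  obtain ⟨N, y, h1, h2⟩ := hc
  obtain ⟨N', y', h1', h2'⟩ := hc'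
  rw [map_sub, sub_eq_zero, qm_pow_smul] at h1 h1'
  have h3 : qm h (D.sys L') (n + k) (Ub D b) (sL h D L' (Ub D b) (u.hom (b ^ N' • y - b ^ N • y'))) = 0 := by
    rw [map_sub, map_smul, map_smul, sL_sub, map_sub, sL_pow, sL_pow, ← h1, ← h1', smul_smul, smul_smul,
      mul_comm, sub_self]
  have h4 := qm_sL_zero_of_image hφ hk b n _ h3
  rw [sL_sub, map_sub, sL_pow, sL_pow, sub_eq_zero, ← h2, ← h2', smul_smul, smul_smul, ← pow_add, ← pow_add,
    add_comm N' N] at h4
  exact cancel_pow h D L b h4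

/-- Sections killed by the next map have preimages over basic opens. -/
theorem exists_preimage (hAR : Frg7.HasAR J) [Module.Finite A L'] (hφ : IsOver D u φ) (hψ : IsOver D v ψ)
    (hu : Function.Injective u.hom) (hv : Function.Surjective v.hom) (he : Function.Exact u.hom v.hom) (b : A)
    (t : Sec ((D.sys L').realMod h) (Ub D b)) (ht : ev (FSch.ModSys.realModMap h ψ) (Ub D b) t = 0) :
    ∃ s, ev (FSch.ModSys.realModMap h φ) (Ub D b) s = t := by
  obtain ⟨k, hk⟩ := exists_ar (u := u) hAR hu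
  have hex : ∀ n, ∃ c, IsPre u k b t n c := fun n => by
    obtain ⟨p, x, hx⟩ := exists_approx h D L' b (n + k) t
    have h1 := qm_ev_zero h ψ hx
    rw [map_sub (ev _ _), map_smul, ht, smul_zero, ev_sL hψ, zero_sub, map_neg, neg_eq_zero] at h1
    obtain ⟨N, hN⟩ := exists_den h D L'' b (n + k) _ h1
    rw [← map_smul, ← LinearMap.range_eq_top.2 hv, ← Submodule.map_top, ← Submodule.map_smul'',
      Submodule.mem_map] at hN
    obtain ⟨d, hd, hd'⟩ := hN
    obtain ⟨y, hy⟩ := (he (b ^ N • x - d)).1 (by rw [map_sub, hd', sub_self])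
    obtain ⟨w, hw⟩ := ((isUnit_pr_aU h D b n).pow (N + p)).exists_left_inv
    refine ⟨w • qm h (D.sys L) n (Ub D b) (sL h D L (Ub D b) y), N + p, y, ?_, by
      rw [smul_smul, mul_comm, hw, one_smul]⟩
    have h2 : aU h D (Ub D b) b ^ (N + p) • t - sL h D L' (Ub D b) (u.hom y) =
        aU h D (Ub D b) b ^ N • (aU h D (Ub D b) b ^ p • t - sL h D L' (Ub D b) x) + sL h D L' (Ub D b) d := by
      rw [hy, sL_sub, sL_smul, map_pow, pow_add, mul_smul, smul_sub]
      abel
    rw [h2, map_add, qm_pow_smul, hx, smul_zero, zero_add]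
    exact qm_sL_eq_zero h D L' b hd
  choose c hc using hex
  have hcc : ∀ n, tm h (D.sys L) n (Ub D b) (c (n + 1)) = c n := fun n => by
    obtain ⟨N, y, h1, h2⟩ := hc (n + 1)
    refine IsPre.unique hφ hk ⟨N, y, qm_eq_zero_of_le h D L' b (by omega) h1, ?_⟩ (hc n)
    have h3 := congrArg (tm h (D.sys L) n (Ub D b)) h2
    rwa [tm_smul, map_pow, tr_pr, tm_qm] at h3
  obtain ⟨s, hs⟩ := qm_lift (D.sys L) (Ub D b) c hcc
  refine ⟨s, qm_ext _ _ fun n => ?_⟩
  obtain ⟨N, y, h1, h2⟩ := hc n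
  have h0 : qm h (D.sys L) n (Ub D b) (aU h D (Ub D b) b ^ N • s - sL h D L (Ub D b) y) = 0 := by
    rw [map_sub, qm_pow_smul, hs, h2, sub_self]
  have h3 := qm_ev_zero h φ h0
  rw [map_sub (ev _ _), map_smul, ev_sL hφ, map_sub, sub_eq_zero, qm_pow_smul] at h3
  have h4 := qm_eq_zero_of_le h D L' b (Nat.le_add_right n k) h1
  rw [map_sub, sub_eq_zero, qm_pow_smul, ← h3] at h4
  exact (cancel_pow h D L' b h4).symm

variable (h D)

/-- Completion is exact on modules. -/
theorem shortExact_realModMap (hAR : Frg7.HasAR J) [Module.Finite A L] [Module.Finite A L']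
    (hφ : IsOver D u φ) (hψ : IsOver D v ψ)
    (hu : Function.Injective u.hom) (hv : Function.Surjective v.hom) (he : Function.Exact u.hom v.hom) :
    ∃ w : FSch.ModSys.realModMap h φ ≫ FSch.ModSys.realModMap h ψ = 0, (ShortComplex.mk _ _ w).ShortExact := by
  have w0 : u ≫ v = 0 := ModuleCat.hom_ext (LinearMap.ext fun x => he.apply_apply_eq_zero x)
  refine ⟨realModMap_comp_eq_zero h D hφ hψ w0, ?_⟩
  haveI := mono_realModMap (h := h) hAR hφ hu
  haveI := epi_realModMap (h := h) hψ hv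
  refine ⟨(ShortComplex.exact_iff_epi_kernel_lift _).2 ?_⟩
  refine epi_of_locally _ fun V z => locally_Ub D V
    (fun W g => ∃ s, ev (kernel.lift _ _ _) W s = rz _ g z) (fun b hb => ?_) (fun W W' g g' hg => ?_) h
  · let t := ev (kernel.ι (FSch.ModSys.realModMap h ψ)) (Ub D b) (rz _ (homOfLE hb) z)
    have ht : ev (FSch.ModSys.realModMap h ψ) (Ub D b) t = 0 := by
      rw [← ev_comp, kernel.condition]
      rfl
    obtain ⟨s, hs⟩ := exists_preimage hAR hφ hψ hu hv he b t ht
    refine ⟨s, app_injective (kernel.ι (FSch.ModSys.realModMap h ψ)) (op (Ub D b)) ?_⟩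
    refine (ev_comp _ (kernel.ι _) (Ub D b) s).symm.trans ?_
    rw [kernel.lift_ι]
    exact hs
  · obtain ⟨s, hs⟩ := hg
    exact ⟨rz _ g s, by rw [ev_res, hs, rz_comp]⟩

end Groth.Agent.H26.AffCompl
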