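import Groth.Agent.H26.AffCompl.Sec
import Mathlib.RingTheory.AdicCompletion.Basic

/-!
# Maps of completed modules
-/

noncomputable section

set_option autoImplicit false
set_option maxHeartbeats 400000
set_option linter.style.haveILetI false
set_option backward.isDefEq.respectTransparency false
set_option backward.isDefEq.respectTransparency.types false

universe u

open CategoryTheory CategoryTheory.Limits TopologicalSpace Opposite AlgebraicGeometry
open Groth.Agent.ModTensor Groth.Agent.ModPull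
open Groth.Agent.H26.FMod Groth.Agent.H26.FMod.HomSec

namespace Groth.Agent.H26.AffCompl

variable {A : Type u} [CommRing A] {J : Ideal A}
variable {𝔛 : FSch.Sys.{u}} (h : 𝔛.IsFormal) (D : FComplLib.AffData A J 𝔛)

lemma qm_ev {𝔐 𝔐' : FSch.ModSys 𝔛} (φ : 𝔐 ⟶ 𝔐') (n : ℕ) (U : (𝔛.X 0).Opens) (s : Sec (𝔐.realMod h) U) :
    qm h 𝔐' n U (ev (FSch.ModSys.realModMap h φ) U s) =
      ((φ : FSch.ModSys.Hom _ _).app n).app (𝔛.lvU h n U) (qm h 𝔐 n U s) :=
  congrArg (fun ψ : 𝔐.realMod h ⟶ (FSch.levelMor 𝔛 h n).push.obj (𝔐'.F n) =>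
    ((fg (𝔛.Osh h)).map ψ).app (op U) s)
    (FSch.realLimMap_realProj 𝔛 h (φ : FSch.ModSys.Hom _ _).app (FSch.ModSys.Hom.toPush_comm φ) n)

lemma qm_ev_zero {𝔐 𝔐' : FSch.ModSys 𝔛} (φ : 𝔐 ⟶ 𝔐') {n : ℕ} {U : (𝔛.X 0).Opens}
    {s : Sec (𝔐.realMod h) U} (hs : qm h 𝔐 n U s = 0) :
    qm h 𝔐' n U (ev (FSch.ModSys.realModMap h φ) U s) = 0 := by
  rw [qm_ev, hs]
  exact map_zero _

/-- A map of systems given by a linear map. -/
def IsOver {L L' : ModuleCat.{u} A} (u : L ⟶ L') (φ : D.sys L ⟶ D.sys L') : Prop :=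
  ∀ n, (φ : FSch.ModSys.Hom _ _).app n =
    (Scheme.Modules.pullback (D.p n)).map ((tilde.functor (CommRingCat.of A)).map u)

variable {h D} {L L' : ModuleCat.{u} A} {u : L ⟶ L'} {φ : D.sys L ⟶ D.sys L'}

lemma ev_ιL (hφ : IsOver D u φ) (x : L) :
    ev (FSch.ModSys.realModMap h φ) ⊤ (ιL h D L x) = ιL h D L' (u.hom x) :=
  qm_ext _ _ fun n => by
    rw [qm_ev, qm_ιL, qm_ιL, hφ n]
    exact D.sec_naturality L u n x

lemma ev_sL (hφ : IsOver D u φ) (U : (𝔛.X 0).Opens) (x : L) :
    ev (FSch.ModSys.realModMap h φ) U (sL h D L U x) = sL h D L' U (u.hom x) :=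
  (ev_res (FSch.ModSys.realModMap h φ) (homOfLE (le_top : U ≤ ⊤)) _).trans
    (congrArg (resM ((D.sys L').realMod h) le_top) (ev_ιL hφ x))

variable (h D) (L)

/-- Elements are determined by their images in the completion. -/
lemma ιL_injective [IsHausdorff J L] : Function.Injective (ιL h D L) := by
  refine (injective_iff_map_eq_zero _).2 fun x hx => IsHausdorff.haus ‹_› x fun n => ?_
  rw [SModEq.zero]
  refine Submodule.smul_mono (Ideal.pow_le_pow_right (Nat.le_succ n)) le_rfl ((D.sec_eq_zero_iff L n x).1 ?_)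
  rw [← qm_ιL h D L n x, hx, map_zero]

/-- The global sections of the completion are the elements. -/
lemma ιL_surjective [IsPrecomplete J L] : Function.Surjective (ιL h D L) := fun s => by
  choose z hz using fun n => D.sec_surjective L n (qm h (D.sys L) n ⊤ s)
  have hsucc : ∀ n, D.sec L n (z (n + 1)) = D.sec L n (z n) := fun n => by
    rw [← D.trans_sec L n (z (n + 1)), hz, hz, ← tm_top h D L n]
    exact tm_qm (D.sys L) n ⊤ s
  have hcau : ∀ {m n : ℕ}, m ≤ n → z m ≡ z n [SMOD (J ^ m • ⊤ : Submodule A L)] := by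
    intro m n hmn
    induction n, hmn using Nat.le_induction with
    | base => rfl
    | succ n hmn ih =>
      refine ih.trans (SModEq.sub_mem.mpr ?_)
      refine Submodule.smul_mono (Ideal.pow_le_pow_right (by omega)) le_rfl
        (?_ : z n - z (n + 1) ∈ J ^ (n + 1) • (⊤ : Submodule A L))
      rw [← D.sec_eq_zero_iff L n, map_sub, hsucc n, sub_self]
  obtain ⟨y, hy⟩ := IsPrecomplete.prec ‹IsPrecomplete J L› hcau
  refine ⟨y, qm_ext _ _ fun n => ?_⟩
  have h1 : D.sec L n (z (n + 1)) = D.sec L n y := by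
    rw [← sub_eq_zero, ← map_sub, D.sec_eq_zero_iff L n]
    exact SModEq.sub_mem.mp (hy (n + 1))
  exact (qm_ιL h D L n y).trans (h1.symm.trans ((hsucc n).trans (hz n)))

variable {L}

/-- A map out of a completed finite module is determined on the elements. -/
theorem hom_ext_ιL [Module.Finite A L] {F : FSch.ModF 𝔛 h} (α β : (D.sys L).realMod h ⟶ F)
    (e : ∀ x : L, ev α ⊤ (ιL h D L x) = ev β ⊤ (ιL h D L x)) : α = β := by
  classical
  obtain ⟨r, x, hx⟩ := Submodule.fg_iff_exists_fin_generating_family.1 (‹Module.Finite A L›).fg_top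
  refine (fg (𝔛.Osh h)).map_injective (PresheafOfModules.hom_ext fun X => ?_)
  refine ModuleCat.hom_ext (LinearMap.ext fun y => eq_of_locally' F (locally_Ub D X.unop
    (fun V g => rz F g (ev α X.unop y) = rz F g (ev β X.unop y)) (fun b hb => ?_) (fun V V' g k hk => ?_) h))
  · rw [← ev_res, ← ev_res]
    obtain ⟨C, hC⟩ := exists_coeff h D L b x hx (rz ((D.sys L).realMod h) (homOfLE hb) y)
    rw [hC, map_sum, map_sum]
    refine Finset.sum_congr rfl fun i _ => ?_
    rw [map_smul, map_smul]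
    refine congrArg (C i • ·) ?_
    rw [sL]
    exact (ev_res α _ _).trans ((congrArg (rz F _) (e (x i))).trans (ev_res β _ _).symm)
  · rw [rz_comp, rz_comp, hk]

/-- Maps of completed modules are maps of modules. -/
theorem bijective_realModMap [Module.Finite A L] [IsAdicComplete J L'] (f : (L ⟶ L') → (D.sys L ⟶ D.sys L'))
    (hf : ∀ u, IsOver D u (f u)) : Function.Bijective fun u => FSch.ModSys.realModMap h (f u) := by
  refine ⟨fun u v e => ModuleCat.hom_ext (LinearMap.ext fun x => ιL_injective h D L' ?_), fun Ψ => ?_⟩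
  · rw [← ev_ιL (hf u), ← ev_ιL (hf v)]
    exact congrArg (fun Φ => ev Φ ⊤ (ιL h D L x)) e
  · choose y hy using fun x : L => ιL_surjective h D L' (ev Ψ ⊤ (ιL h D L x))
    let w : L ⟶ L' := ModuleCat.ofHom
      { toFun := y
        map_add' := fun a b => ιL_injective h D L' (by rw [map_add, hy, hy, hy, map_add, map_add])
        map_smul' := fun a b => ιL_injective h D L' (by
          rw [RingHom.id_apply, ιL_smul, hy, hy, ιL_smul, map_smul]) }
    refine ⟨w, hom_ext_ιL h D _ _ fun x => ?_⟩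
    rw [ev_ιL (hf w)]
    exact hy x

/-- Composable maps with zero composite. -/
theorem realModMap_comp_eq_zero {L'' : ModuleCat.{u} A} [Module.Finite A L] {v : L' ⟶ L''}
    {ψ : D.sys L' ⟶ D.sys L''} (hφ : IsOver D u φ) (hψ : IsOver D v ψ) (w : u ≫ v = 0) :
    FSch.ModSys.realModMap h φ ≫ FSch.ModSys.realModMap h ψ = 0 := by
  refine hom_ext_ιL h D _ _ fun x => ?_
  rw [ev_comp, ev_ιL hφ, ev_ιL hψ, ev_zero, show v.hom (u.hom x) = (u ≫ v).hom x from rfl, w]
  exact map_zero _

end Groth.Agent.H26.AffCompl
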