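import Groth.Agent.H26.AffCompl.Reflect
import Groth.Agent.Frg7.Trunc
import Groth.Agent.Frg7.Local
import Groth.Agent.Frg7.Basic

/-!
# The rings of basic opens of a completion are algebras topologically of finite type
-/

noncomputable section

set_option autoImplicit false
set_option maxHeartbeats 400000
set_option linter.style.haveILetI false
set_option backward.isDefEq.respectTransparency false
set_option backward.isDefEq.respectTransparency.types false

universe u

open CategoryTheory CategoryTheory.Limits TopologicalSpace Opposite AlgebraicGeometry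
open Groth.Agent.H26.FMod

namespace Groth.Agent.H26.AffCompl

variable {R : Type u} [CommRing R] {I : Ideal R} {A : Type u} [CommRing A] [Algebra R A]
variable {𝔛 : FSch.Sys.{u}} (h : 𝔛.IsFormal) (D : FComplLib.AffData A (I.map (algebraMap R A)) 𝔛) (b : A)

/-- Scalars on a level of a basic open. -/
def αL (n : ℕ) : A →+* Lv h n (Ub D b) := (pr h n (Ub D b)).comp (aU h D (Ub D b))

/-- The localisation maps to the levels of the basic open. -/
def psi (n : ℕ) : Localization.Away b →+* Lv h n (Ub D b) :=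
  IsLocalization.Away.lift (S := Localization.Away b) b (g := αL h D b n) (isUnit_pr_aU h D b n)

lemma psi_algebraMap (n : ℕ) (a : A) :
    psi h D b n (algebraMap A (Localization.Away b) a) = pr h n (Ub D b) (aU h D (Ub D b) a) :=
  IsLocalization.Away.lift_eq b (isUnit_pr_aU h D b n) a

lemma tr_psi (n : ℕ) (z : Localization.Away b) : tr h n (Ub D b) (psi h D b (n + 1) z) = psi h D b n z :=
  RingHom.congr_fun (show (tr h n (Ub D b)).comp (psi h D b (n + 1)) = psi h D b n from
    IsLocalization.ringHom_ext (Submonoid.powers b) (RingHom.ext fun a => by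
      simp only [RingHom.comp_apply, psi_algebraMap, tr_pr])) z

lemma psi_surjective (n : ℕ) : Function.Surjective (psi h D b n) := fun c => by
  obtain ⟨k, r, hr⟩ := exists_num_scalar h D b n (κ := Unit) fun _ => c
  obtain ⟨v, hv⟩ := ((IsLocalization.Away.algebraMap_isUnit (S := Localization.Away b) b).pow k).exists_left_inv
  refine ⟨v * algebraMap A _ (r ()), ((isUnit_pr_aU h D b n).pow k).mul_left_cancel ?_⟩
  have hv' := congrArg (psi h D b n) hv
  rw [map_mul, map_one, map_pow, psi_algebraMap] at hv'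
  rw [map_mul, psi_algebraMap, ← mul_assoc, mul_comm _ (psi h D b n v), hv', one_mul, hr ()]

lemma psi_eq_zero_iff (n : ℕ) (z : Localization.Away b) :
    psi h D b n z = 0 ↔ z ∈ (I.map (algebraMap R (Localization.Away b))) ^ (n + 1) := by
  have e : (I.map (algebraMap R (Localization.Away b))) ^ (n + 1) =
      ((I.map (algebraMap R A)) ^ (n + 1)).map (algebraMap A (Localization.Away b)) := by
    rw [Ideal.map_pow, Ideal.map_map, ← IsScalarTower.algebraMap_eq]
  rw [e]
  refine ⟨fun hz => ?_, fun hz => ?_⟩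
  · obtain ⟨⟨r, ⟨_, m, rfl⟩⟩, hr⟩ := IsLocalization.surj (Submonoid.powers b) z
    have h1 : pr h n (Ub D b) (aU h D (Ub D b) r) = 0 := by
      rw [← psi_algebraMap, ← hr, map_mul, hz, zero_mul]
    rw [pr_aU] at h1
    haveI := D.isAffine n
    obtain ⟨N, hN⟩ := (level_loc (isAffineOpen_top (𝔛.X n)) (D.σ n b) (iU h D b n)
      (lvU_Ub h D n b)).2.1 _ h1
    rw [← map_pow, ← map_mul] at hN
    have h2 := Ideal.mem_map_of_mem (algebraMap A (Localization.Away b)) (mem_of_σ_eq_zero D hN)
    rw [map_mul, ← hr] at h2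
    exact (Ideal.mul_unit_mem_iff_mem _ (IsLocalization.map_units (Localization.Away b)
      (⟨b ^ m, m, rfl⟩ : Submonoid.powers b))).1 ((Ideal.unit_mul_mem_iff_mem _ (IsLocalization.map_units (Localization.Away b)
      (⟨b ^ N, N, rfl⟩ : Submonoid.powers b))).1 h2)
  · refine (Ideal.map_le_iff_le_comap (K := RingHom.ker (psi h D b n))).2 (fun a ha => ?_) hz
    rw [Ideal.mem_comap, RingHom.mem_ker, psi_algebraMap, pr_aU, σ_eq_zero D ha, map_zero]

/-- The complete localisation maps to the levels. -/
def phi0 (n : ℕ) : AdicRing.CLoc I b →+* Lv h n (Ub D b) :=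
  (Ideal.Quotient.lift _ (psi h D b n) fun z hz => (psi_eq_zero_iff h D b n z).2 hz).comp
    (AdicCompletion.evalₐ (I.map (algebraMap R (Localization.Away b))) (n + 1)).toRingHom

lemma phi0_algebraMap (n : ℕ) (z : Localization.Away b) :
    phi0 h D b n (algebraMap _ (AdicRing.CLoc I b) z) = psi h D b n z := by
  simp only [phi0, RingHom.comp_apply, AlgHom.toRingHom_eq_coe, RingHom.coe_coe, AlgHom.commutes,
    Ideal.Quotient.algebraMap_eq, Ideal.Quotient.lift_mk]

variable (hI : I.FG)

lemma map_pow_cLoc (n : ℕ) : (I ^ n).map (algebraMap R (AdicRing.CLoc I b)) =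
    ((I.map (algebraMap R (Localization.Away b))).map
      (algebraMap (Localization.Away b) (AdicRing.CLoc I b))) ^ n := by
  rw [Ideal.map_map, ← IsScalarTower.algebraMap_eq, Ideal.map_pow]

lemma phi0_eq_zero_of_mem (n : ℕ) {x : AdicRing.CLoc I b}
    (hx : x ∈ (I ^ (n + 1)).map (algebraMap R (AdicRing.CLoc I b))) : phi0 h D b n x = 0 := by
  refine (Ideal.map_le_iff_le_comap (K := RingHom.ker (phi0 h D b n))).2 (fun r hr => ?_) hx
  rw [Ideal.mem_comap, RingHom.mem_ker, IsScalarTower.algebraMap_apply R (Localization.Away b) (AdicRing.CLoc I b),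
    phi0_algebraMap, psi_eq_zero_iff, ← Ideal.map_pow]
  exact Ideal.mem_map_of_mem _ hr

include hI in
lemma exists_approx_cLoc (n : ℕ) (x : AdicRing.CLoc I b) :
    ∃ z : Localization.Away b, x - algebraMap _ _ z ∈ (I ^ n).map (algebraMap R (AdicRing.CLoc I b)) := by
  rw [map_pow_cLoc]
  exact Adic7.exists_sub_algebraMap_mem _ (hI.map _) x n

include hI in
lemma phi0_eq_zero_iff (n : ℕ) (x : AdicRing.CLoc I b) :
    phi0 h D b n x = 0 ↔ x ∈ (I ^ (n + 1)).map (algebraMap R (AdicRing.CLoc I b)) := by
  refine ⟨fun hx => ?_, phi0_eq_zero_of_mem h D b n⟩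
  obtain ⟨z, hz⟩ := exists_approx_cLoc b hI (n + 1) x
  have h1 := phi0_eq_zero_of_mem h D b n hz
  rw [map_sub, hx, zero_sub, neg_eq_zero, phi0_algebraMap, psi_eq_zero_iff] at h1
  have h2 := Ideal.mem_map_of_mem (algebraMap (Localization.Away b) (AdicRing.CLoc I b)) h1
  rw [Ideal.map_pow, ← map_pow_cLoc] at h2
  simpa using add_mem hz h2

include hI in
lemma tr_phi0 (n : ℕ) (x : AdicRing.CLoc I b) :
    tr h n (Ub D b) (phi0 h D b (n + 1) x) = phi0 h D b n x := by
  obtain ⟨z, hz⟩ := exists_approx_cLoc b hI (n + 2) x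
  have h1 := phi0_eq_zero_of_mem h D b (n + 1) hz
  have h2 := phi0_eq_zero_of_mem h D b n (Ideal.map_mono (Ideal.pow_le_pow_right (Nat.le_succ (n + 1))) hz)
  rw [map_sub, sub_eq_zero] at h1 h2
  rw [h1, h2, phi0_algebraMap, phi0_algebraMap, tr_psi]

include hI in
lemma exists_phi (x : AdicRing.CLoc I b) : ∃ y : Rg h (Ub D b), ∀ n, pr h n (Ub D b) y = phi0 h D b n x :=
  pr_lift (Ub D b) (fun n => phi0 h D b n x) fun n => tr_phi0 h D b hI n x

/-- The complete localisation maps to the sections of the completion. -/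
def phi : AdicRing.CLoc I b →+* Rg h (Ub D b) where
  toFun x := (exists_phi h D b hI x).choose
  map_one' := pr_ext _ fun n => by rw [(exists_phi h D b hI 1).choose_spec n, map_one, map_one]
  map_mul' x y := pr_ext _ fun n => by
    rw [(exists_phi h D b hI (x * y)).choose_spec n, map_mul, map_mul, (exists_phi h D b hI x).choose_spec n,
      (exists_phi h D b hI y).choose_spec n]
  map_zero' := pr_ext _ fun n => by rw [(exists_phi h D b hI 0).choose_spec n, map_zero, map_zero]
  map_add' x y := pr_ext _ fun n => by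
    rw [(exists_phi h D b hI (x + y)).choose_spec n, map_add, map_add, (exists_phi h D b hI x).choose_spec n,
      (exists_phi h D b hI y).choose_spec n]

lemma pr_phi (n : ℕ) (x : AdicRing.CLoc I b) : pr h n (Ub D b) (phi h D b hI x) = phi0 h D b n x :=
  (exists_phi h D b hI x).choose_spec n

theorem phi_surjective : Function.Surjective (phi h D b hI) := fun y => by
  choose z hz using fun n => psi_surjective h D b n (pr h n (Ub D b) y)
  haveI := Frg7.complete_cLoc hI b
  have hstep : ∀ n, algebraMap _ (AdicRing.CLoc I b) (z (n + 1)) - algebraMap _ _ (z n) ∈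
      (I ^ (n + 1)).map (algebraMap R (AdicRing.CLoc I b)) := fun n => by
    rw [← phi0_eq_zero_iff h D b hI, map_sub, phi0_algebraMap, phi0_algebraMap, ← tr_psi, hz, hz, tr_pr, sub_self]
  let K := I.map (algebraMap R (AdicRing.CLoc I b))
  let Z : ℕ → AdicRing.CLoc I b := fun n => algebraMap _ _ (z n)
  have hcau : ∀ {m n : ℕ}, m ≤ n → Z m ≡ Z n [SMOD (K ^ m • ⊤ : Submodule (AdicRing.CLoc I b) (AdicRing.CLoc I b))] := by
    intro m n hmn
    induction n, hmn using Nat.le_induction with
    | base => rfl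
    | succ n hmn ih =>
      refine ih.trans (SModEq.sub_mem.mpr ?_)
      rw [smul_eq_mul, Ideal.mul_top, ← neg_mem_iff, neg_sub, ← Ideal.map_pow]
      exact Ideal.map_mono (Ideal.pow_le_pow_right (by omega)) (hstep n)
  obtain ⟨x, hx⟩ := IsPrecomplete.prec (inferInstance : IsPrecomplete K (AdicRing.CLoc I b)) hcau
  refine ⟨x, pr_ext _ fun n => ?_⟩
  have h1 := SModEq.sub_mem.mp (hx (n + 1))
  rw [smul_eq_mul, Ideal.mul_top, ← Ideal.map_pow, ← phi0_eq_zero_iff h D b hI, map_sub, sub_eq_zero,
    phi0_algebraMap] at h1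
  rw [pr_phi, ← h1, ← tr_pr n, ← hz (n + 1), tr_psi]

include hI in
theorem pr_surjective_Ub (n : ℕ) : Function.Surjective (pr h n (Ub D b)) := fun c => by
  obtain ⟨z, rfl⟩ := psi_surjective h D b n c
  exact ⟨phi h D b hI (algebraMap _ _ z), (pr_phi h D b hI n _).trans (phi0_algebraMap h D b n z)⟩

variable (hR : AdicRing.IsBase R I) (hA : AdicRing.TopFiniteType R I A)

include hR hA in
theorem topFiniteType_cLoc : AdicRing.TopFiniteType R I (AdicRing.CLoc I b) := by
  have hI := Frg7.IsBase.fg hR
  haveI := Frg7.complete_cLoc hI b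
  haveI := Frg7.finiteType_trunc hI hA 1
  haveI : Algebra.FiniteType R (AdicRing.CLoc I b ⧸ I.map (algebraMap R (AdicRing.CLoc I b))) := by
    have h1 := Frg7.finiteType_trunc_cLoc hI b 1
    rw [pow_one] at h1
    exact h1
  exact Frg7.topFiniteType_of_finiteType hR

include hR hA in
/-- Spans over the ring of a basic open are closed. -/
theorem mem_span_of_forall_level {κ ρ : Type} [Fintype κ] [Fintype ρ] (M : ρ → κ → Rg h (Ub D b))
    (c : κ → Rg h (Ub D b))
    (hc : ∀ n, ∃ d : ρ → Rg h (Ub D b), ∀ i, pr h n (Ub D b) (c i) = pr h n (Ub D b) (∑ j, d j * M j i)) :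
    c ∈ Submodule.span (Rg h (Ub D b)) (Set.range M) := by
  classical
  have hI := Frg7.IsBase.fg hR
  choose M' hM' using fun j i => phi_surjective h D b hI (M j i)
  choose c' hc' using fun i => phi_surjective h D b hI (c i)
  let N := Submodule.span (AdicRing.CLoc I b) (Set.range M')
  haveI : IsAdicComplete I ((κ → AdicRing.CLoc I b) ⧸ N) :=
    Frg7.isAdicComplete hR (topFiniteType_cLoc b hR hA) _
  have key : c' ∈ N := by
    refine (Submodule.Quotient.mk_eq_zero N).1 (IsHausdorff.haus
      (inferInstance : IsHausdorff I ((κ → AdicRing.CLoc I b) ⧸ N)) _ fun n => ?_)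
    rw [SModEq.zero]
    refine Submodule.smul_mono (Ideal.pow_le_pow_right (Nat.le_succ n)) le_rfl ?_
    obtain ⟨d, hd⟩ := hc n
    choose d' hd' using fun j => phi_surjective h D b hI (d j)
    have h1 : ∀ i, c' i - ∑ j, d' j * M' j i ∈ (I ^ (n + 1)).map (algebraMap R (AdicRing.CLoc I b)) := fun i => by
      rw [← phi0_eq_zero_iff h D b hI, ← pr_phi h D b hI, map_sub, map_sub, hc', sub_eq_zero, hd, map_sum (phi h D b hI)]
      exact congrArg _ (Finset.sum_congr rfl fun j _ => by rw [map_mul, hd', hM'])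
    have h2 : Submodule.Quotient.mk c' ∈ ((I ^ (n + 1)).map (algebraMap R (AdicRing.CLoc I b)) •
        (⊤ : Submodule (AdicRing.CLoc I b) ((κ → AdicRing.CLoc I b) ⧸ N))) := by
      have h3 : c' - ∑ j, d' j • M' j ∈ (I ^ (n + 1)).map (algebraMap R (AdicRing.CLoc I b)) •
          (⊤ : Submodule (AdicRing.CLoc I b) (κ → AdicRing.CLoc I b)) :=
        Adic7.mem_pow_smul_top_pi _ _ fun i => by
          rw [smul_eq_mul, Ideal.mul_top, Pi.sub_apply, Finset.sum_apply]
          exact h1 i
      have h4 := Submodule.mem_map_of_mem (f := N.mkQ) h3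
      rw [Submodule.map_smul'', Submodule.map_top, Submodule.range_mkQ, Submodule.mkQ_apply,
        Submodule.Quotient.mk_sub, (Submodule.Quotient.mk_eq_zero N).2 (Submodule.sum_mem _ fun j _ =>
          N.smul_mem _ (Submodule.subset_span ⟨j, rfl⟩)), sub_zero] at h4
      exact h4
    rw [← Submodule.restrictScalars_mem R, Ideal.smul_restrictScalars, Submodule.restrictScalars_top] at h2
    exact h2
  obtain ⟨d, hd⟩ := (Submodule.mem_span_range_iff_exists_fun _).1 key
  refine (Submodule.mem_span_range_iff_exists_fun _).2 ⟨fun j => phi h D b hI (d j), funext fun i => ?_⟩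
  rw [← hc', ← hd, Finset.sum_apply, Finset.sum_apply, map_sum]
  exact Finset.sum_congr rfl fun j _ => by rw [Pi.smul_apply, Pi.smul_apply, smul_eq_mul, smul_eq_mul, map_mul, hM']

end Groth.Agent.H26.AffCompl
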