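import Groth.Agent.H26.FMod.Pull

/-!
# Inverse images to the levels over affine opens with a presentation
-/

noncomputable section

set_option autoImplicit false
set_option linter.style.haveILetI false
set_option backward.isDefEq.respectTransparency false
set_option backward.isDefEq.respectTransparency.types false

universe u

open CategoryTheory CategoryTheory.Limits TopologicalSpace Opposite AlgebraicGeometry
open Groth.Agent.ModTensor Groth.Agent.ModPull Groth.Agent.LocalFactor Groth.Agent.SecGen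

attribute [local instance] Pres.fκ Pres.fρ

open Groth.Agent.H26.FMod

namespace Groth.Agent.H26.AffCompl

variable {𝔛 : FSch.Sys.{u}} {hF : 𝔛.IsFormal} {𝔉 : FSch.ModF 𝔛 hF} {U : (𝔛.X 0).Opens} (hU : IsAffineOpen U)
  (P : Pres (𝔛.Osh hF) 𝔉 U) (k : ℕ)

include hU in
/-- Pulled back generators generate on every level. -/
theorem puk_gen (h𝔉 : Coh.IsQCoh (pullK k 𝔉)) (z : Γ(pullK k 𝔉, 𝔛.lvU hF k (U))) :
    ∃ c : P.κ → Lv hF k (U), z = ∑ i, c i • puk k 𝔉 (U) (P.s i) := by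
  let f := FSch.levelMor 𝔛 hF k
  let T : Set Γ(pullK k 𝔉, 𝔛.lvU hF k (U)) :=
    Set.range fun i => puk k 𝔉 (U) (P.s i)
  suffices z ∈ Submodule.span (Lv hF k (U)) T by
    obtain ⟨c, hc⟩ := (Submodule.mem_span_range_iff_exists_fun _).1 this
    exact ⟨c, hc.symm⟩
  refine QCoh.mem_span_of_locally h𝔉 (isAffineOpen_lvU hF k (hU)) T z fun x hx => ?_
  obtain ⟨S, hS, hSp⟩ := locally_combination f 𝔉 (W := 𝔛.lvU hF k (U)) z
  obtain ⟨W', g, hg, hxW⟩ := hS x hx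
  obtain ⟨X, j, n, b, t, ht⟩ := hSp g hg
  let Y : (𝔛.X 0).Opens := X ⊓ U
  let y : 𝔛.X 0 := (𝔛.gInv hF k) x
  have hy : y ∈ Y := ⟨leOfHom j hxW, hx⟩
  obtain ⟨S', hS', hSp'⟩ := ModPull.Locally.forall_fintype fun l : Fin n =>
    P.gen (W := Y) (homOfLE inf_le_right) (resM 𝔉 (inf_le_left : Y ≤ X) (t l))
  obtain ⟨V, g', hg', hyV⟩ := hS' y hy
  let Q : (𝔛.X k).Opens := W' ⊓ 𝔛.lvU hF k V
  have hQ : Q ≤ 𝔛.lvU hF k (U) := inf_le_left.trans (leOfHom g)
  refine ⟨Q, hQ, ⟨hxW, hyV⟩, ?_⟩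
  have hVX : V ≤ X := (leOfHom g').trans inf_le_left
  have hVD : V ≤ U := (leOfHom g').trans inf_le_right
  have key : ∀ l, QCoh.rs (pullK k 𝔉) (inf_le_left.trans (leOfHom j) : Q ≤ 𝔛.lvU hF k X) (puk k 𝔉 X (t l)) ∈
      Submodule.span Γ(𝔛.X k, Q) (QCoh.rs (pullK k 𝔉) hQ '' T) := by
    intro l
    obtain ⟨c, hc⟩ := hSp' g' hg' l
    have hc' : puk k 𝔉 V (resM 𝔉 hVX (t l)) =
        puk k 𝔉 V (∑ i, c i • resM 𝔉 hVD (P.s i)) := by
      refine congrArg (puk k 𝔉 V) (Eq.trans ?_ hc)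
      exact SecGen.rs_op_comp g' (homOfLE inf_le_left) (t l)
    have hc2 := congrArg (QCoh.rs (pullK k 𝔉) (inf_le_right : Q ≤ 𝔛.lvU hF k V)) hc'
    simp only [puk_res, QCoh.rs, QCoh.map_map, map_sum] at hc2
    rw [show QCoh.rs (pullK k 𝔉) (inf_le_left.trans (leOfHom j) : Q ≤ 𝔛.lvU hF k X) (puk k 𝔉 X (t l)) =
      _ from hc2]
    refine Submodule.sum_mem _ fun i _ => ?_
    rw [puk_smul, QCoh.map_smul']
    refine Submodule.smul_mem _ _ (Submodule.subset_span ⟨_, ⟨i, rfl⟩, ?_⟩)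
    simp only [puk_res, QCoh.rs, QCoh.map_map]
    rfl
  have ht' := congrArg (QCoh.rs (pullK k 𝔉) (inf_le_left : Q ≤ W')) ht
  have e0 : QCoh.rs (pullK k 𝔉) hQ z =
      QCoh.rs (pullK k 𝔉) (inf_le_left : Q ≤ W') ((pullK k 𝔉).presheaf.map g.op z) :=
    (QCoh.map_map (M := pullK k 𝔉) _ _ _).symm
  rw [show QCoh.rs (pullK k 𝔉) hQ z = _ from e0.trans ht', QCoh.rs, map_sum]
  refine Submodule.sum_mem _ fun l _ => ?_
  have e1 : (pullK k 𝔉).presheaf.map (homOfLE (inf_le_left : Q ≤ W')).op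
      ((show Γ(𝔛.X k, W') from b l) • (pullK k 𝔉).presheaf.map j.op (puk k 𝔉 X (t l))) =
      (𝔛.X k).presheaf.map (homOfLE (inf_le_left : Q ≤ W')).op (show Γ(𝔛.X k, W') from b l) •
        QCoh.rs (pullK k 𝔉) (inf_le_left.trans (leOfHom j) : Q ≤ 𝔛.lvU hF k X) (puk k 𝔉 X (t l)) := by
    rw [QCoh.map_smul', QCoh.map_map]
    rfl
  exact e1 ▸ Submodule.smul_mem _ _ (key l)

include hU in
/-- Pulled back relations generate the relations on every level. -/
theorem puk_rel (c : P.κ → Lv hF k (U))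
    (hc : ∑ i, c i • puk k 𝔉 (U) (P.s i) = 0) :
    ∃ d : P.ρ → Lv hF k (U), ∀ i, c i = ∑ j, d j * FMod.pr hF k U (P.A j i) := by
  classical
  let f := FSch.levelMor 𝔛 hF k
  let Ab : P.ρ → P.κ → Lv hF k U := fun j i => FMod.pr hF k U (P.A j i)
  let N := Submodule.span (Lv hF k U) (Set.range Ab)
  obtain ⟨Z, ζ, hζ, hζ0⟩ := exists_test (isAffineOpen_lvU hF k hU)
    (ModuleCat.of (Lv hF k U) ((P.κ → Lv hF k U) ⧸ N))
  let ev : P.κ → ((P.κ → Lv hF k U) ⧸ N) := fun i => Submodule.Quotient.mk (Pi.single i 1)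
  have hev : ∀ r : P.κ → Lv hF k U, ∑ i, r i • ev i = Submodule.Quotient.mk r := fun r => by
    conv_rhs => rw [pi_eq_sum_univ r]
    rw [← Submodule.mkQ_apply, map_sum]
    refine Finset.sum_congr rfl fun i _ => ?_
    rw [map_smul]
    refine congrArg (r i • ·) (congrArg Submodule.Quotient.mk (funext fun j => ?_))
    simp [Pi.single_apply, eq_comm]
  let y : P.κ → Sec (f.push.obj Z) U := fun i => ζ (ev i)
  have hy : ∀ j, ∑ i, P.A j i • y i = 0 := fun j => by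
    show ∑ i, pr hF k U (P.A j i) • ζ (ev i) = 0
    have h1 : ∑ i, Ab j i • ev i = 0 :=
      (hev (Ab j)).trans ((Submodule.Quotient.mk_eq_zero N).2 (Submodule.subset_span ⟨j, rfl⟩))
    have h2 := congrArg ζ h1
    rw [map_sum, map_zero] at h2
    exact (Finset.sum_congr rfl fun i _ => (hζ (Ab j i) (ev i)).symm).trans h2
  obtain ⟨τ, hτ⟩ := LHomLib.exists_lhom_of_pres P y hy
  obtain ⟨σ, hσ⟩ := PullSlice.exists_pullLHom f U τ
  let ι : U ⟶ U := 𝟙 U
  have hσs : ∀ i, σ.app (f.fn.map ι) (puk k 𝔉 U (P.s i)) =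
      Z.presheaf.map ((Opens.map (𝔛.gInv hF k)).map ι).op (ζ (ev i)) := fun i => by
    refine (hσ U ι _).trans ?_
    have h3 := τ.nat ι (𝟙 U) (P.s i)
    rw [Category.comp_id, hτ] at h3
    refine Eq.trans ?_ h3
    exact congrArg _ (rs_id _).symm
  have h0 : ∑ i, c i • Z.presheaf.map ((Opens.map (𝔛.gInv hF k)).map ι).op (ζ (ev i)) = 0 := by
    have h4 := congrArg (σ.app (f.fn.map ι)) hc
    erw [map_sum, map_zero] at h4
    refine Eq.trans (Finset.sum_congr rfl fun i _ => ?_) h4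
    rw [← hσs i]
    exact (map_smul (σ.app (f.fn.map ι)) (c i) _).symm
  have h5 : Z.presheaf.map ((Opens.map (𝔛.gInv hF k)).map ι).op (ζ (Submodule.Quotient.mk c)) = 0 := by
    rw [← hev, map_sum, map_sum]
    refine Eq.trans (Finset.sum_congr rfl fun i _ => ?_) h0
    rw [hζ, QCoh.map_smul', QCoh.map_id',
      show ((Opens.map (𝔛.gInv hF k)).map ι).op = 𝟙 _ from rfl, CategoryTheory.Functor.map_id]
    rfl
  obtain ⟨n, hn⟩ := hζ0 _ _ 1 (Scheme.basicOpen_of_isUnit _ isUnit_one).symm _ h5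
  rw [one_pow, one_smul, Submodule.Quotient.mk_eq_zero] at hn
  obtain ⟨d, hd⟩ := (Submodule.mem_span_range_iff_exists_fun _).1 hn
  refine ⟨d, fun i => ?_⟩
  rw [← hd, Finset.sum_apply]
  rfl

end Groth.Agent.H26.AffCompl
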