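import Groth.Agent.H26.AffCompl.Exact

/-!
# Completion reflects exactness
-/

noncomputable section

set_option autoImplicit false
set_option maxHeartbeats 400000
set_option linter.style.haveILetI false
set_option backward.isDefEq.respectTransparency false
set_option backward.isDefEq.respectTransparency.types false

universe u

open CategoryTheory CategoryTheory.Limits TopologicalSpace Opposite AlgebraicGeometry
open Groth.Agent.ModTensor Groth.Agent.ModPull
open Groth.Agent.H26.FMod Groth.Agent.H26.FMod.HomSec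

namespace Groth.Agent.H26.AffCompl

variable {A : Type u} [CommRing A] {J : Ideal A}
variable {𝔛 : FSch.Sys.{u}} (h : 𝔛.IsFormal) (D : FComplLib.AffData A J 𝔛)

lemma mem_of_σ_eq_zero {n : ℕ} {a : A} (ha : D.σ n a = 0) : a ∈ J ^ (n + 1) := by
  have h1 : (Scheme.ΓSpecIso (CommRingCat.of A)).inv a ∈ (D.p n).ker.ideal ⟨⊤, isAffineOpen_top _⟩ := by
    haveI := D.cl n
    rw [Scheme.Hom.ker_apply]
    exact ha
  rw [D.ker, Scheme.IdealSheafData.ideal_pow, Pi.pow_apply, FComplLib.AffData.idealSpec_ideal_top,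
    ← Ideal.map_pow] at h1
  have hb := ConcreteCategory.bijective_of_isIso (Scheme.ΓSpecIso (CommRingCat.of A)).inv
  obtain ⟨a', ha', e⟩ := (Ideal.mem_map_iff_of_surjective _ hb.2).1 h1
  exact hb.1 e ▸ ha'

include h in
/-- An ideal containing a power of a local generator near each point, and the ideal of definition, is everything. -/
lemma eq_top_of_cover (a : Ideal A) (hJ : J ≤ a)
    (hpt : ∀ x : 𝔛.X 0, ∃ (b : A) (M : ℕ), x ∈ Ub D b ∧ b ^ M ∈ a) : a = ⊤ := by
  haveI := D.isAffine 0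
  have hS : Ideal.span (D.σ 0 '' (a.radical : Set A)) = ⊤ := by
    refine ((isAffineOpen_top (𝔛.X 0)).self_le_iSup_basicOpen_iff).1 fun x _ => ?_
    obtain ⟨b, M, hx, hb⟩ := hpt x
    refine Opens.mem_iSup.2 ⟨⟨D.σ 0 b, b, ⟨M, hb⟩, rfl⟩, ?_⟩
    exact Scheme.preimage_basicOpen_top (D.p 0) _ ▸ hx
  have h1 : (1 : Γ(𝔛.X 0, ⊤)) ∈ a.radical.map (D.σ 0) := hS.ge trivial
  obtain ⟨e, he, he'⟩ := (Ideal.mem_map_iff_of_surjective _ (D.σ_surjective 0)).1 h1
  have h2 : 1 - e ∈ J := by
    simpa using mem_of_σ_eq_zero D (n := 0) (show D.σ 0 (1 - e) = 0 by rw [map_sub, map_one, he', sub_self])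
  have h3 : (1 : A) ∈ a.radical := by
    simpa using add_mem (Ideal.le_radical (hJ h2)) he
  exact (Ideal.radical_eq_top).1 ((Ideal.eq_top_iff_one _).2 h3)

variable {L L' L'' : ModuleCat.{u} A} {u : L ⟶ L'} {v : L' ⟶ L''} {φ : D.sys L ⟶ D.sys L'} {ψ : D.sys L' ⟶ D.sys L''}

/-- Almost surjectivity of a map which is surjective after completion. -/
lemma mem_range_sup (hψ : IsOver D v ψ) [Epi (FSch.ModSys.realModMap h ψ)] (y : L'') :
    y ∈ LinearMap.range v.hom ⊔ J • (⊤ : Submodule A L'') := by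
  let K := LinearMap.range v.hom ⊔ J • (⊤ : Submodule A L'')
  let a : Ideal A := K.colon {y}
  suffices a = ⊤ by simpa [a] using Submodule.mem_colon_singleton.1 ((Ideal.eq_top_iff_one a).1 this)
  refine eq_top_of_cover h D a (fun j hj => Submodule.mem_colon_singleton.2
    (Submodule.mem_sup_right (Submodule.smul_mem_smul hj trivial))) fun x => ?_
  obtain ⟨W, hW, hxW, s, hs⟩ := GStab.point_of_locally
    (locally_exists_app_eq (FSch.ModSys.realModMap h ψ) (ιL h D L'' y)) (show x ∈ (⊤ : (𝔛.X 0).Opens) from trivial)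
  obtain ⟨b, hxb, hbW⟩ := exists_Ub h D hxW
  have hs' : ev (FSch.ModSys.realModMap h ψ) (Ub D b) (rz ((D.sys L').realMod h) (homOfLE hbW) s) =
      sL h D L'' (Ub D b) y := by
    refine (ev_res _ _ _).trans ((congrArg (rz _ (homOfLE hbW)) hs).trans ?_)
    exact (rz_comp _ _ _ _).symm
  obtain ⟨p, z, hz⟩ := exists_approx h D L' b 0 (rz ((D.sys L').realMod h) (homOfLE hbW) s)
  have h1 := qm_ev_zero h ψ hz
  rw [map_sub (ev _ _), map_smul, hs', ev_sL hψ, ← map_pow, ← sL_smul, ← sL_sub] at h1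
  obtain ⟨N, hN⟩ := exists_den h D L'' b 0 _ h1
  rw [zero_add, pow_one] at hN
  refine ⟨b, N + p, hxb, Submodule.mem_colon_singleton.2 ?_⟩
  have h2 : b ^ (N + p) • y = b ^ N • (b ^ p • y - v.hom z) + v.hom (b ^ N • z) := by
    rw [pow_add, mul_smul, map_smul, smul_sub, sub_add_cancel]
  rw [h2]
  exact add_mem (Submodule.mem_sup_right hN) (Submodule.mem_sup_left (LinearMap.mem_range_self v.hom _))

variable {h D}

/-- Completion reflects short exact sequences. -/
theorem shortExact_of_realModMap (hJ : J ≤ Ideal.jacobson ⊥) [IsAdicComplete J L] [IsAdicComplete J L']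
    [IsAdicComplete J L''] [Module.Finite A L''] (hφ : IsOver D u φ) (hψ : IsOver D v ψ)
    (hΔ : ∃ w : FSch.ModSys.realModMap h φ ≫ FSch.ModSys.realModMap h ψ = 0, (ShortComplex.mk _ _ w).ShortExact) :
    ∃ w : u ≫ v = 0, (ShortComplex.mk u v w).ShortExact := by
  obtain ⟨w', hS⟩ := hΔ
  haveI : Mono (FSch.ModSys.realModMap h φ) := hS.mono_f
  haveI : Epi (FSch.ModSys.realModMap h ψ) := hS.epi_g
  have w : u ≫ v = 0 := ModuleCat.hom_ext (LinearMap.ext fun x => ιL_injective h D L'' (by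
    rw [show (u ≫ v).hom x = v.hom (u.hom x) from rfl, ← ev_ιL hψ, ← ev_ιL hφ, ← ev_comp, w']
    exact (map_zero (ιL h D L'')).symm))
  have hu : Function.Injective u.hom := (injective_iff_map_eq_zero _).2 fun x hx => ιL_injective h D L (by
    rw [map_zero]
    refine app_injective (FSch.ModSys.realModMap h φ) (op ⊤) ?_
    show ev _ ⊤ _ = ev _ ⊤ _
    rw [ev_ιL hφ, hx, map_zero, map_zero])
  have he : ∀ x : L', v.hom x = 0 → ∃ y, u.hom y = x := fun x hx => by
    have h0 : FreeOnPres.toHom (ιL h D L' x) ≫ FSch.ModSys.realModMap h ψ = 0 := FreeOnPres.sec_inj <| by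
      rw [ev_toHom, ev_ιL hψ, hx, map_zero, ← toHom_zero, FreeOnPres.sec_toHom]
    obtain ⟨l, hl⟩ := KernelFork.IsLimit.lift' hS.fIsKernel _ h0
    obtain ⟨y, hy⟩ := ιL_surjective h D L (FreeOnPres.sec l)
    refine ⟨y, ιL_injective h D L' ?_⟩
    rw [← ev_ιL hφ, hy]
    exact ((FreeOnPres.sec_comp l _).symm.trans (congrArg FreeOnPres.sec hl)).trans (FreeOnPres.sec_toHom _)
  have hv : Function.Surjective v.hom := fun y => by
    have h1 : (⊤ : Submodule A L'') ≤ LinearMap.range v.hom :=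
      Submodule.le_of_le_smul_of_le_jacobson_bot (‹Module.Finite A L''›).fg_top hJ fun y _ => mem_range_sup h D hψ y
    exact h1 trivial
  haveI := (ModuleCat.mono_iff_injective u).2 hu
  haveI := (ModuleCat.epi_iff_surjective v).2 hv
  exact ⟨w, ⟨(ShortComplex.moduleCat_exact_iff _).2 fun x hx => he x hx⟩⟩

end Groth.Agent.H26.AffCompl
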