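import Groth.Agent.H26.FMod.Pres
import Groth.Agent.H26.FMod.HomSec
import Groth.Agent.H26.FMod.GammaStable
import Groth.Agent.FComplLib.AffSysCompl

/-!
# Sections of completed modules on the completion of an affine scheme

No Noetherian hypothesis is made.
-/

noncomputable section

set_option autoImplicit false
set_option maxHeartbeats 1000000
set_option linter.style.haveILetI false
set_option backward.isDefEq.respectTransparency false
set_option backward.isDefEq.respectTransparency.types false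

universe u

open CategoryTheory CategoryTheory.Limits TopologicalSpace Opposite AlgebraicGeometry
open Groth.Agent.ModTensor Groth.Agent.ModPull
open Groth.Agent.H26.FMod

namespace Groth.Agent.H26.AffCompl

/-- The transition of global sections of a system. -/
lemma tm_top_gen {𝔛 : FSch.Sys.{u}} (hF : 𝔛.IsFormal) (𝔐 : FSch.ModSys 𝔛) (n : ℕ) (z : Sm hF 𝔐 (n + 1) ⊤) :
    tm hF 𝔐 n ⊤ z = FComplLib.AffData.trans 𝔐 n z := by
  show (𝔐.F n).presheaf.map (homOfLE (𝔛.lvU_le hF n ⊤)).op ((𝔐.toPush n).app (𝔛.lvU hF (n + 1) ⊤) z) = _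
  rw [FSch.ModSys.toPush, Adjunction.homEquiv_unit]
  exact QCoh.map_id' _ _

variable {A : Type u} [CommRing A] {J : Ideal A}

variable {𝔛 : FSch.Sys.{u}} (h : 𝔛.IsFormal) (D : FComplLib.AffData A J 𝔛) (L : ModuleCat.{u} A)

/-- The basic open of a scalar. -/
def Ub (b : A) : (𝔛.X 0).Opens :=
  (D.p 0) ⁻¹ᵁ (Spec (CommRingCat.of A)).basicOpen ((Scheme.ΓSpecIso (CommRingCat.of A)).inv b)

lemma lvU_Ub (n : ℕ) (b : A) :
    𝔛.lvU h n (Ub D b) = (𝔛.X n).basicOpen (D.σ n b) :=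
  (FSch.lvU_p 𝔛 h D.p D.comm n _).symm.trans (Scheme.preimage_basicOpen_top (D.p n) _)

include h in
lemma exists_Ub {W : (𝔛.X 0).Opens} {x : 𝔛.X 0} (hx : x ∈ W) :
    ∃ b : A, x ∈ Ub D b ∧ Ub D b ≤ W := by
  haveI := D.cl 0
  obtain ⟨V, hV, hW⟩ := (D.p 0).isClosedEmbedding.isInducing.isOpen_iff.1 W.2
  have hxV : (D.p 0).base x ∈ V := hW.ge hx
  obtain ⟨_, ⟨b', rfl⟩, hb, hbV⟩ :=
    (isAffineOpen_top (Spec (CommRingCat.of A))).exists_basicOpen_le ⟨_, hxV⟩ trivial |>.elim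
      fun f hf => (⟨_, ⟨f, rfl⟩, hf.2, hf.1⟩ :
        ∃ U, (∃ f, (Spec (CommRingCat.of A)).basicOpen f = U) ∧ (D.p 0).base x ∈ U ∧ U ≤ (⟨V, hV⟩ : Opens _))
  obtain ⟨b, rfl⟩ := (ConcreteCategory.bijective_of_isIso (Scheme.ΓSpecIso (CommRingCat.of A)).inv).2 b'
  exact ⟨b, hb, fun y hy => hW.le (hbV hy)⟩

lemma tr_top_σ (n : ℕ) (a : A) : tr h n ⊤ (D.σ (n + 1) a) = D.σ n a := by
  refine Eq.trans ?_ (D.σ_trans n a)
  show (𝔛.ι n).appLE ⊤ ⊤ _ _ = _
  rw [Scheme.Hom.appTop, Scheme.Hom.app_eq_appLE]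
  rfl

lemma exists_aTop (a : A) : ∃ x : Rg h ⊤, ∀ n, pr h n ⊤ x = D.σ n a :=
  pr_lift ⊤ (fun n => D.σ n a) fun n => tr_top_σ h D n a

/-- Scalars as sections of the structure sheaf. -/
def aTop : A →+* Rg h ⊤ where
  toFun a := (exists_aTop h D a).choose
  map_one' := pr_ext _ fun n => by rw [(exists_aTop h D 1).choose_spec n, map_one, map_one]
  map_mul' a b := pr_ext _ fun n => by
    rw [(exists_aTop h D (a * b)).choose_spec n, map_mul, map_mul, (exists_aTop h D a).choose_spec n,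
      (exists_aTop h D b).choose_spec n]
  map_zero' := pr_ext _ fun n => by rw [(exists_aTop h D 0).choose_spec n, map_zero, map_zero]
  map_add' a b := pr_ext _ fun n => by
    rw [(exists_aTop h D (a + b)).choose_spec n, map_add, map_add, (exists_aTop h D a).choose_spec n,
      (exists_aTop h D b).choose_spec n]

lemma pr_aTop (n : ℕ) (a : A) : pr h n ⊤ (aTop h D a) = D.σ n a := (exists_aTop h D a).choose_spec n

/-- Scalars on an open. -/
def aU (U : (𝔛.X 0).Opens) : A →+* Rg h U := (res le_top).comp (aTop h D)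

lemma res_aU {U V : (𝔛.X 0).Opens} (hle : V ≤ U) (a : A) : res (hF := h) hle (aU h D U a) = aU h D V a :=
  GStab.ρ_ρ (O := 𝔛.Osh h) (le_top) hle (aTop h D a)

lemma tm_top (n : ℕ) (z : Sm h (D.sys L) (n + 1) ⊤) :
    tm h (D.sys L) n ⊤ z = FComplLib.AffData.trans (D.sys L) n z := tm_top_gen h (D.sys L) n z

lemma exists_ιL (x : L) : ∃ s : Sec ((D.sys L).realMod h) ⊤, ∀ n, qm h (D.sys L) n ⊤ s = D.sec L n x :=
  qm_lift (D.sys L) ⊤ (fun n => D.sec L n x) fun n => (tm_top h D L n _).trans (D.trans_sec L n x)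

/-- Elements of a module as global sections. -/
def ιL : L →+ Sec ((D.sys L).realMod h) ⊤ where
  toFun x := (exists_ιL h D L x).choose
  map_zero' := qm_ext _ _ fun n => by
    rw [(exists_ιL h D L 0).choose_spec n, map_zero, map_zero]
  map_add' x y := qm_ext _ _ fun n => by
    rw [(exists_ιL h D L (x + y)).choose_spec n, map_add (qm h (D.sys L) n ⊤), map_add,
      (exists_ιL h D L x).choose_spec n, (exists_ιL h D L y).choose_spec n]

lemma qm_ιL (n : ℕ) (x : L) : qm h (D.sys L) n ⊤ (ιL h D L x) = D.sec L n x := (exists_ιL h D L x).choose_spec n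

lemma ιL_smul (a : A) (x : L) : ιL h D L (a • x) = aTop h D a • ιL h D L x :=
  qm_ext _ _ fun n => by
    rw [qm_ιL, qm_smul, qm_ιL, pr_aTop]
    exact D.sec_smul L n a x

/-- Elements of a module as sections over an open. -/
def sL (U : (𝔛.X 0).Opens) (x : L) : Sec ((D.sys L).realMod h) U :=
  resM ((D.sys L).realMod h) le_top (ιL h D L x)

lemma sL_smul (U : (𝔛.X 0).Opens) (a : A) (x : L) : sL h D L U (a • x) = aU h D U a • sL h D L U x := by
  rw [sL, ιL_smul]
  exact rs_smul _ _ _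

lemma sL_add (U : (𝔛.X 0).Opens) (x y : L) : sL h D L U (x + y) = sL h D L U x + sL h D L U y := by
  rw [sL, map_add]
  exact rs_add (P := (fg (𝔛.Osh h)).obj ((D.sys L).realMod h)) _ _ _

lemma sL_zero (U : (𝔛.X 0).Opens) : sL h D L U 0 = 0 := by
  rw [sL, map_zero]
  exact map_zero (((fg (𝔛.Osh h)).obj ((D.sys L).realMod h)).map (homOfLE (le_top : U ≤ ⊤)).op).hom

lemma sL_sub (U : (𝔛.X 0).Opens) (x y : L) : sL h D L U (x - y) = sL h D L U x - sL h D L U y :=
  eq_sub_of_add_eq (by rw [← sL_add, sub_add_cancel])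

lemma sL_sum {κ : Type*} (U : (𝔛.X 0).Opens) (s : Finset κ) (x : κ → L) :
    sL h D L U (∑ i ∈ s, x i) = ∑ i ∈ s, sL h D L U (x i) := by
  classical
  induction s using Finset.induction_on with
  | empty => exact sL_zero h D L U
  | insert i s hi ih => rw [Finset.sum_insert hi, Finset.sum_insert hi, sL_add, ih]

lemma resM_sL {U V : (𝔛.X 0).Opens} (hle : V ≤ U) (x : L) :
    resM ((D.sys L).realMod h) hle (sL h D L U x) = sL h D L V x :=
  (rs_comp (P := (fg (𝔛.Osh h)).obj ((D.sys L).realMod h)) (homOfLE (le_top : U ≤ ⊤)).op (homOfLE hle).op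
    (ιL h D L x)).symm

lemma isQCoh_F (n : ℕ) : Coh.IsQCoh ((D.sys L).F n) := D.isQCoh_level L n

include L in
lemma sec_pow_smul (n k : ℕ) (b : A) (x : L) :
    D.sec L n (b ^ k • x) = D.σ n b ^ k • D.sec L n x := by
  rw [D.sec_smul, map_pow]

section Basic

variable (b : A)

/-- The open map to the global level. -/
abbrev iU (n : ℕ) : 𝔛.lvU h n (Ub D b) ⟶ 𝔛.lvU h n ⊤ :=
  (Opens.map (𝔛.gInv h n)).map (homOfLE le_top)

lemma pr_aU (n : ℕ) (a : A) :
    pr h n (Ub D b) (aU h D (Ub D b) a) = (𝔛.X n).presheaf.map (iU h D b n).op (D.σ n a) := by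
  rw [aU, RingHom.comp_apply, pr_res, pr_aTop]

lemma isUnit_pr_aU (n : ℕ) : IsUnit (pr h n (Ub D b) (aU h D (Ub D b) b)) := by
  rw [pr_aU]
  haveI := D.isAffine n
  exact (level_loc (isAffineOpen_top (𝔛.X n)) (D.σ n b) (iU h D b n) (lvU_Ub h D n b)).2.2

lemma qm_sL (n : ℕ) (x : L) :
    qm h (D.sys L) n (Ub D b) (sL h D L (Ub D b) x) =
      ((D.sys L).F n).presheaf.map (iU h D b n).op (D.sec L n x) := by
  rw [sL, qm_res, qm_ιL]

/-- Sections of a level have numerators. -/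
lemma exists_num (n : ℕ) (c : Sm h (D.sys L) n (Ub D b)) : ∃ (k : ℕ) (x : L),
    pr h n (Ub D b) (aU h D (Ub D b) b) ^ k • c = qm h (D.sys L) n (Ub D b) (sL h D L (Ub D b) x) := by
  haveI := D.isAffine n
  obtain ⟨k, z, hz⟩ := (level_locM (isQCoh_F D L n) (isAffineOpen_top (𝔛.X n)) (D.σ n b) (iU h D b n)
    (lvU_Ub h D n b)).1 c
  obtain ⟨x, rfl⟩ := D.sec_surjective L n z
  refine ⟨k, x, ?_⟩
  rw [qm_sL, pr_aU]
  exact hz.symm

/-- Elements vanishing on a level of a basic open. -/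
lemma exists_den (n : ℕ) (x : L) (hx : qm h (D.sys L) n (Ub D b) (sL h D L (Ub D b) x) = 0) :
    ∃ N : ℕ, b ^ N • x ∈ J ^ (n + 1) • (⊤ : Submodule A L) := by
  haveI := D.isAffine n
  rw [qm_sL] at hx
  obtain ⟨N, hN⟩ := (level_locM (isQCoh_F D L n) (isAffineOpen_top (𝔛.X n)) (D.σ n b) (iU h D b n)
    (lvU_Ub h D n b)).2 _ hx
  exact ⟨N, (D.sec_eq_zero_iff L n _).1 ((sec_pow_smul D L n N b x).trans hN)⟩

lemma qm_sL_eq_zero {n : ℕ} {x : L} (hx : x ∈ J ^ (n + 1) • (⊤ : Submodule A L)) :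
    qm h (D.sys L) n (Ub D b) (sL h D L (Ub D b) x) = 0 := by
  rw [qm_sL, (D.sec_eq_zero_iff L n x).2 hx]
  exact map_zero _

lemma qm_pow_smul (n k : ℕ) (s : Sec ((D.sys L).realMod h) (Ub D b)) :
    qm h (D.sys L) n (Ub D b) (aU h D (Ub D b) b ^ k • s) =
      pr h n (Ub D b) (aU h D (Ub D b) b) ^ k • qm h (D.sys L) n (Ub D b) s := by
  rw [qm_smul, map_pow]

/-- The powers of the scalar can be cancelled on a level. -/
lemma cancel_pow {n k : ℕ} {v w : Sm h (D.sys L) n (Ub D b)}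
    (e : pr h n (Ub D b) (aU h D (Ub D b) b) ^ k • v = pr h n (Ub D b) (aU h D (Ub D b) b) ^ k • w) : v = w :=
  ((isUnit_pr_aU h D b n).pow k).smul_left_cancel.1 e

lemma qm_eq_zero_of_le {m n : ℕ} (hnm : n ≤ m) {s : Sec ((D.sys L).realMod h) (Ub D b)}
    (hs : qm h (D.sys L) m (Ub D b) s = 0) : qm h (D.sys L) n (Ub D b) s = 0 := by
  induction m, hnm using Nat.le_induction with
  | base => exact hs
  | succ m _ ih => exact ih (by rw [← tm_qm, hs, map_zero])

/-- Every section is, on each level, a quotient of an element. -/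
lemma exists_approx (m : ℕ) (s : Sec ((D.sys L).realMod h) (Ub D b)) : ∃ (k : ℕ) (x : L),
    qm h (D.sys L) m (Ub D b) (aU h D (Ub D b) b ^ k • s - sL h D L (Ub D b) x) = 0 := by
  obtain ⟨k, x, hx⟩ := exists_num h D L b m (qm h (D.sys L) m (Ub D b) s)
  exact ⟨k, x, by rw [map_sub, qm_pow_smul, hx, sub_self]⟩

/-- Scalars vanish on a level exactly on the powers of the ideal. -/
lemma σ_eq_zero {n : ℕ} {a : A} (ha : a ∈ J ^ (n + 1)) : D.σ n a = 0 := by
  have h1 : (Scheme.ΓSpecIso (CommRingCat.of A)).inv a ∈ (D.p n).ker.ideal ⟨⊤, isAffineOpen_top _⟩ := by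
    rw [D.ker, Scheme.IdealSheafData.ideal_pow, Pi.pow_apply, FComplLib.AffData.idealSpec_ideal_top,
      ← Ideal.map_pow]
    exact Ideal.mem_map_of_mem _ ha
  haveI := D.cl n
  rw [Scheme.Hom.ker_apply] at h1
  exact h1

/-- Scalars of a level have numerators. -/
lemma exists_num_scalar {κ : Type} [Fintype κ] (n : ℕ) (c : κ → Lv h n (Ub D b)) : ∃ (k : ℕ) (r : κ → A), ∀ i,
    pr h n (Ub D b) (aU h D (Ub D b) b) ^ k * c i = pr h n (Ub D b) (aU h D (Ub D b) (r i)) := by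
  classical
  haveI := D.isAffine n
  have h1 : ∀ i, ∃ (k : ℕ) (r : A),
      pr h n (Ub D b) (aU h D (Ub D b) b) ^ k * c i = pr h n (Ub D b) (aU h D (Ub D b) r) := fun i => by
    obtain ⟨k, z, hz⟩ := (level_loc (isAffineOpen_top (𝔛.X n)) (D.σ n b) (iU h D b n)
      (lvU_Ub h D n b)).1 (c i)
    obtain ⟨r, rfl⟩ := D.σ_surjective n z
    exact ⟨k, r, by rw [pr_aU, pr_aU]; exact hz⟩
  choose k r hr using h1
  refine ⟨Finset.univ.sup k, fun i => b ^ (Finset.univ.sup k - k i) * r i, fun i => ?_⟩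
  rw [map_mul, map_pow, map_mul, map_pow, ← hr i, ← mul_assoc, ← pow_add,
    Nat.sub_add_cancel (Finset.le_sup (f := k) (Finset.mem_univ i))]

variable {κ : Type} [Fintype κ] (x : κ → L)

/-- The combination of the generators with given coefficients on a level. -/
abbrev comb (n : ℕ) (c : κ → Lv h n (Ub D b)) : Sm h (D.sys L) n (Ub D b) :=
  ∑ i, c i • qm h (D.sys L) n (Ub D b) (sL h D L (Ub D b) (x i))

lemma comb_aU (n : ℕ) (v : Lv h n (Ub D b)) (r : κ → A) :
    comb h D L b x n (fun i => v * pr h n (Ub D b) (aU h D (Ub D b) (r i))) =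
      v • qm h (D.sys L) n (Ub D b) (sL h D L (Ub D b) (∑ i, r i • x i)) := by
  rw [sL_sum, map_sum, Finset.smul_sum]
  refine Finset.sum_congr rfl fun i _ => ?_
  rw [sL_smul, qm_smul, smul_smul]

lemma exists_comb (hx : Submodule.span A (Set.range x) = ⊤) (n : ℕ) (c : Sm h (D.sys L) n (Ub D b)) :
    ∃ e : κ → Lv h n (Ub D b), comb h D L b x n e = c := by
  obtain ⟨k, y, hy⟩ := exists_num h D L b n c
  obtain ⟨r, hr⟩ := (Submodule.mem_span_range_iff_exists_fun A).1 (hx.ge (trivial : y ∈ ⊤))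
  obtain ⟨v, hv⟩ := ((isUnit_pr_aU h D b n).pow k).exists_left_inv
  refine ⟨fun i => v * pr h n (Ub D b) (aU h D (Ub D b) (r i)), ?_⟩
  rw [comb_aU, hr, ← hy, smul_smul, hv, one_smul]

/-- Relations lift to the next level. -/
lemma exists_lift_rel (hx : Submodule.span A (Set.range x) = ⊤) (n : ℕ) (d : κ → Lv h n (Ub D b))
    (hd : comb h D L b x n d = 0) :
    ∃ e : κ → Lv h (n + 1) (Ub D b), comb h D L b x (n + 1) e = 0 ∧ ∀ i, tr h n (Ub D b) (e i) = d i := by
  classical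
  obtain ⟨k, r, hr⟩ := exists_num_scalar h D b n d
  have h0 : qm h (D.sys L) n (Ub D b) (sL h D L (Ub D b) (∑ i, r i • x i)) = 0 := by
    have h1 := comb_aU h D L b x n 1 r
    rw [one_smul] at h1
    rw [← h1, ← smul_zero (pr h n (Ub D b) (aU h D (Ub D b) b) ^ k), ← hd, Finset.smul_sum]
    refine Finset.sum_congr rfl fun i _ => ?_
    simp only [one_mul, smul_smul, hr]
  obtain ⟨N, hN⟩ := exists_den h D L b n _ h0
  rw [← hx, Submodule.mem_ideal_smul_span_iff_exists_sum] at hN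
  obtain ⟨j, hj, hjs⟩ := hN
  rw [Finsupp.sum_fintype _ _ (fun i => zero_smul A (x i))] at hjs
  let r' : κ → A := fun i => b ^ N * r i - j i
  have hr' : ∑ i, r' i • x i = 0 := by
    simp only [r', sub_smul, mul_smul, Finset.sum_sub_distrib, ← Finset.smul_sum]
    exact sub_eq_zero.2 hjs.symm
  obtain ⟨v, hv⟩ := ((isUnit_pr_aU h D b (n + 1)).pow (N + k)).exists_left_inv
  refine ⟨fun i => v * pr h (n + 1) (Ub D b) (aU h D (Ub D b) (r' i)), ?_, fun i => ?_⟩
  · rw [comb_aU, hr', sL_zero, map_zero, smul_zero]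
  · refine ((isUnit_pr_aU h D b n).pow (N + k)).mul_left_cancel ?_
    have h2 : pr h n (Ub D b) (aU h D (Ub D b) b) ^ (N + k) * tr h n (Ub D b) v = 1 := by
      have := congrArg (tr h n (Ub D b)) hv
      rw [map_mul, map_one, map_pow, tr_pr] at this
      rw [mul_comm]
      exact this
    rw [map_mul, tr_pr, ← mul_assoc, h2, one_mul]
    have h3 : pr h n (Ub D b) (aU h D (Ub D b) (j i)) = 0 := by
      rw [pr_aU, σ_eq_zero D (hj i), map_zero]
    rw [map_sub, map_sub, h3, sub_zero, map_mul, map_pow, map_mul, map_pow, pow_add, mul_assoc, hr]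

/-- Generators of a module generate the sections of its completion over basic opens. -/
theorem exists_coeff (hx : Submodule.span A (Set.range x) = ⊤) (t : Sec ((D.sys L).realMod h) (Ub D b)) :
    ∃ C : κ → Rg h (Ub D b), t = ∑ i, C i • sL h D L (Ub D b) (x i) := by
  classical
  let P : ∀ n, (κ → Lv h n (Ub D b)) → Prop := fun n c => comb h D L b x n c = qm h (D.sys L) n (Ub D b) t
  have step : ∀ n, ∀ c : {c // P n c}, ∃ c' : {c // P (n + 1) c}, ∀ i, tr h n (Ub D b) (c'.1 i) = c.1 i := fun n c => by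
    obtain ⟨e, he⟩ := exists_comb h D L b x hx (n + 1) (qm h (D.sys L) (n + 1) (Ub D b) t)
    have hd : comb h D L b x n (fun i => c.1 i - tr h n (Ub D b) (e i)) = 0 := by
      simp only [comb, sub_smul, Finset.sum_sub_distrib]
      refine sub_eq_zero.2 (c.2.trans ?_)
      rw [← tm_qm, ← he, map_sum]
      refine Finset.sum_congr rfl fun i _ => ?_
      rw [tm_smul, tm_qm]
    obtain ⟨e', he', hte'⟩ := exists_lift_rel h D L b x hx n _ hd
    refine ⟨⟨fun i => e i + e' i, ?_⟩, fun i => ?_⟩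
    · show comb h D L b x (n + 1) _ = _
      simp only [comb, add_smul, Finset.sum_add_distrib]
      exact (congrArg₂ (· + ·) he he').trans (add_zero _)
    · rw [map_add, hte', add_sub_cancel]
  obtain ⟨c₀, hc₀⟩ := exists_comb h D L b x hx 0 (qm h (D.sys L) 0 (Ub D b) t)
  choose nxt hnxt using step
  let c : ∀ n, {c // P n c} := fun n => n.rec ⟨c₀, hc₀⟩ fun m cm => nxt m cm
  choose C hC using fun i => pr_lift (hF := h) (Ub D b) (fun n => (c n).1 i) fun n => hnxt n (c n) i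
  refine ⟨C, qm_ext _ _ fun n => ?_⟩
  rw [map_sum]
  refine (c n).2.symm.trans (Finset.sum_congr rfl fun i _ => ?_)
  rw [qm_smul, hC]

end Basic

/-- Opens are locally basic. -/
lemma locally_Ub (W : (𝔛.X 0).Opens) (P : ∀ ⦃V : (𝔛.X 0).Opens⦄, (V ⟶ W) → Prop)
    (hP : ∀ (b : A) (hb : Ub D b ≤ W), P (homOfLE hb))
    (hres : ∀ ⦃V V' : (𝔛.X 0).Opens⦄ (g : V' ⟶ V) (k : V ⟶ W), P k → P (g ≫ k))
    (hh : 𝔛.IsFormal) :
    ModPull.Locally (Opens.grothendieckTopology (𝔛.X 0)) W P := by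
  refine ⟨{ arrows := fun V _ => ∃ b : A, V ≤ Ub D b ∧ Ub D b ≤ W,
            downward_closed := fun {V V' f} ⟨b, h1, h2⟩ g => ⟨b, (leOfHom g).trans h1, h2⟩ }, ?_, ?_⟩
  · intro x hx
    obtain ⟨b, hb, hb'⟩ := exists_Ub hh D hx
    exact ⟨Ub D b, homOfLE hb', ⟨b, le_rfl, hb'⟩, hb⟩
  · rintro V g ⟨b, h1, h2⟩
    exact (Subsingleton.elim _ g : homOfLE h1 ≫ homOfLE h2 = g) ▸ hres (homOfLE h1) (homOfLE h2) (hP b h2)

end Groth.Agent.H26.AffCompl
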