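import Groth.Agent.H26.AffCompl.Loc
import Groth.Agent.H26.AffCompl.Pull
import Groth.Agent.H26.FMod.Equiv

/-!
# Finitely presented modules on a completion are the modules of their levels
-/

noncomputable section

set_option autoImplicit false
set_option maxHeartbeats 400000
set_option linter.style.haveILetI false
set_option backward.isDefEq.respectTransparency false
set_option backward.isDefEq.respectTransparency.types false

universe u

open CategoryTheory CategoryTheory.Limits TopologicalSpace Opposite AlgebraicGeometry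
open Groth.Agent.ModTensor Groth.Agent.ModPull Groth.Agent.LocalFactor Groth.Agent.SecGen
open Groth.Agent.H26.FMod Groth.Agent.H26.FMod.HomSec

attribute [local instance] Pres.fκ Pres.fρ

namespace Groth.Agent.H26.AffCompl

variable {R : Type u} [CommRing R] {I : Ideal R} {A : Type u} [CommRing A] [Algebra R A]
variable {𝔛 : FSch.Sys.{u}} (h : 𝔛.IsFormal) (D : FComplLib.AffData A (I.map (algebraMap R A)) 𝔛)
  {F : FSch.ModF 𝔛 h}

include h in
lemma isAffineOpen_Ub (b : A) : IsAffineOpen (Ub D b) := by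
  haveI := D.isAffine 0
  rw [← lvU_zero (hF := h) (Ub D b), lvU_Ub]
  exact (isAffineOpen_top _).basicOpen _

lemma exists_Ub_pres (hF : FSch.IsCohF 𝔛 h F) {W : (𝔛.X 0).Opens} {x : 𝔛.X 0} (hx : x ∈ W) :
    ∃ b : A, x ∈ Ub D b ∧ Ub D b ≤ W ∧ Nonempty (Pres (𝔛.Osh h) F (Ub D b)) := by
  obtain ⟨U, -, hxU, hUW, ⟨P⟩⟩ := exists_affine_pres hF hx
  obtain ⟨b, hxb, hb⟩ := exists_Ub h D hxU
  exact ⟨b, hxb, hb.trans hUW, ⟨presPull P (homOfLE hb)⟩⟩

variable (hR : AdicRing.IsBase R I) (hA : AdicRing.TopFiniteType R I A)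

include hR hA in
/-- Relations of the sections are relations on the levels. -/
lemma sum_eq_zero_of_puk {b : A} (P : Pres (𝔛.Osh h) F (Ub D b)) (c : P.κ → Rg h (Ub D b))
    (hc : ∀ n, puk n F (Ub D b) (∑ i, c i • P.s i) = 0) : ∑ i, c i • P.s i = 0 := by
  classical
  have hI := Frg7.IsBase.fg hR
  have hmem : c ∈ Submodule.span (Rg h (Ub D b)) (Set.range P.A) := by
    refine mem_span_of_forall_level h D b hR hA P.A c fun n => ?_
    obtain ⟨d, hd⟩ := puk_rel (isAffineOpen_Ub h D b) P n (fun i => FMod.pr h n (Ub D b) (c i)) (by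
      rw [← hc n, map_sum]
      exact Finset.sum_congr rfl fun i _ => (puk_smul _ _ _ _ _).symm)
    choose e he using fun j => pr_surjective_Ub h D b hI n (d j)
    exact ⟨e, fun i => by
      rw [hd i, map_sum]
      exact Finset.sum_congr rfl fun j _ => by rw [map_mul, he]⟩
  obtain ⟨d, hd⟩ := (Submodule.mem_span_range_iff_exists_fun _).1 hmem
  rw [← hd]
  simp only [Finset.sum_apply, Pi.smul_apply, smul_eq_mul, Finset.sum_smul, mul_smul]
  rw [Finset.sum_comm]
  exact Finset.sum_eq_zero fun j _ => by rw [← Finset.smul_sum, P.rel, smul_zero]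

include D hR hA in
/-- A finitely presented module is separated. -/
lemma eq_zero_of_puk (hF : FSch.IsCohF 𝔛 h F) {V : (𝔛.X 0).Opens} (t : Sec F V)
    (ht : ∀ n, puk n F V t = 0) : t = 0 := by
  refine eq_of_locally' F (GStab.locally_of_point (P := fun W g => rz F g t = rz F g 0) (fun x hx => ?_)
    fun W W' g k hg => by rw [rz_comp, rz_comp, hg])
  obtain ⟨b, hxb, hbV, ⟨P⟩⟩ := exists_Ub_pres h D hF hx
  obtain ⟨W, hW, hxW, c, hc⟩ := GStab.point_of_locally (P.gen (W := Ub D b) (𝟙 _) (rz F (homOfLE hbV) t)) hxb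
  obtain ⟨b', hxb', hb'⟩ := exists_Ub h D hxW
  refine ⟨Ub D b', (hb'.trans hW).trans hbV, hxb', ?_⟩
  let P' := presPull P (homOfLE (hb'.trans hW))
  let C : P'.κ → Rg h (Ub D b') := fun i => res hb' (c i)
  have hsum : rz F (homOfLE ((hb'.trans hW).trans hbV)) t = ∑ i, C i • P'.s i := by
    have h1 := congrArg (rz F (homOfLE hb')) hc
    refine Eq.trans ?_ (h1.trans ?_)
    · rw [← rz_comp]
      exact rz_comp F (homOfLE hbV) (homOfLE (hb'.trans hW)) t
    · rw [rz, rs_sum]
      refine Finset.sum_congr rfl fun i _ => ?_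
      rw [rs_smul, ← SecGen.rs_op_comp]
      rfl
  rw [rz_zero, hsum]
  refine sum_eq_zero_of_puk h D hR hA P' C fun n => ?_
  rw [← hsum]
  refine (puk_res n F ((hb'.trans hW).trans hbV) t).trans ?_
  rw [ht, map_zero]

include hR in
/-- Sections of the levels of a finitely presented module come from the module over basic opens with a presentation. -/
lemma exists_preimage_toReal {b : A} (P : Pres (𝔛.Osh h) F (Ub D b)) (hF : FSch.IsCohF 𝔛 h F)
    (y : Sec ((sysOf h F).realMod h) (Ub D b)) : ∃ s, ev (toReal h F) (Ub D b) s = y := by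
  classical
  have hI := Frg7.IsBase.fg hR
  have hU := isAffineOpen_Ub h D b
  let cb : ∀ n, (P.κ → Lv h n (Ub D b)) → Sm h (sysOf h F) n (Ub D b) := fun n c =>
    ∑ i, c i • puk n F (Ub D b) (P.s i)
  have htm : ∀ n c, tm h (sysOf h F) n (Ub D b) (cb (n + 1) c) = cb n fun i => tr h n (Ub D b) (c i) :=
    fun n c => by
    simp only [cb, map_sum]
    refine Finset.sum_congr rfl fun i _ => ?_
    rw [← qm_toReal, ← qm_toReal, tm_smul, tm_qm]
  have step : ∀ n (c : {c // cb n c = qm h (sysOf h F) n (Ub D b) y}),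
      ∃ c' : {c // cb (n + 1) c = qm h (sysOf h F) (n + 1) (Ub D b) y}, ∀ i, tr h n (Ub D b) (c'.1 i) = c.1 i :=
    fun n c => by
    obtain ⟨e, he⟩ := puk_gen hU P (n + 1) (isCoh_pullK (n + 1) F hF).1 (qm h (sysOf h F) (n + 1) (Ub D b) y)
    have h1 : cb n (fun i => tr h n (Ub D b) (e i) - c.1 i) = 0 := by
      have h2 : cb n (fun i => tr h n (Ub D b) (e i)) = qm h (sysOf h F) n (Ub D b) y := by
        rw [← htm, ← tm_qm]
        exact congrArg _ he.symm
      simp only [cb, sub_smul, Finset.sum_sub_distrib]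
      exact sub_eq_zero.2 (h2.trans c.2.symm)
    obtain ⟨d, hd⟩ := puk_rel hU P n _ h1
    choose d' hd' using fun j => pr_surjective_Ub h D b hI n (d j)
    let δ : P.κ → Rg h (Ub D b) := fun i => ∑ j, d' j * P.A j i
    have hδ : ∑ i, δ i • P.s i = 0 := by
      simp only [δ, Finset.sum_smul, mul_smul]
      rw [Finset.sum_comm]
      exact Finset.sum_eq_zero fun j _ => by rw [← Finset.smul_sum, P.rel, smul_zero]
    refine ⟨⟨fun i => e i - FMod.pr h (n + 1) (Ub D b) (δ i), ?_⟩, fun i => ?_⟩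
    · simp only [cb, sub_smul, Finset.sum_sub_distrib]
      have h3 : ∑ i, FMod.pr h (n + 1) (Ub D b) (δ i) • puk (n + 1) F (Ub D b) (P.s i) = 0 := by
        simp only [← puk_smul, ← map_sum, hδ, map_zero]
      exact (congrArg₂ (· - ·) he.symm h3).trans (sub_zero _)
    · rw [map_sub, tr_pr, map_sum]
      have h4 : ∑ j, FMod.pr h n (Ub D b) (d' j * P.A j i) = tr h n (Ub D b) (e i) - c.1 i := by
        rw [hd i]
        exact Finset.sum_congr rfl fun j _ => by rw [map_mul, hd']
      rw [h4, sub_sub_cancel]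
  obtain ⟨c₀, hc₀⟩ := puk_gen hU P 0 (isCoh_pullK 0 F hF).1 (qm h (sysOf h F) 0 (Ub D b) y)
  choose nxt hnxt using step
  let c : ∀ n, {c // cb n c = qm h (sysOf h F) n (Ub D b) y} := fun n => n.rec ⟨c₀, hc₀.symm⟩ fun m cm => nxt m cm
  choose C hC using fun i => pr_lift (hF := h) (Ub D b) (fun n => (c n).1 i) fun n => hnxt n (c n) i
  refine ⟨∑ i, C i • P.s i, qm_ext _ _ fun n => ?_⟩
  refine (qm_toReal F n (Ub D b) _).trans (Eq.trans ?_ (c n).2)
  rw [map_sum]
  exact Finset.sum_congr rfl fun i _ => by rw [puk_smul, hC]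

include hR hA D in
/-- Finitely presented modules are the modules of the systems of their levels. -/
theorem isIso_toReal (hF : FSch.IsCohF 𝔛 h F) : IsIso (toReal h F) := by
  haveI : Mono (toReal h F) := mono_of_locally _ fun V t ht => GStab.locally_of_point (fun x hx => by
    refine ⟨V, le_rfl, hx, ?_⟩
    rw [eq_zero_of_puk h D hR hA hF t fun n => by
      rw [← qm_toReal]; exact (congrArg _ ht).trans (map_zero _)]
    exact rz_zero _ _) fun W W' g k hg => by rw [rz_comp, hg]; exact rz_zero _ _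
  haveI : Epi (toReal h F) := epi_of_locally _ fun V y => GStab.locally_of_point (fun x hx => by
    obtain ⟨b, hxb, hbV, ⟨P⟩⟩ := exists_Ub_pres h D hF hx
    obtain ⟨s, hs⟩ := exists_preimage_toReal h D hR P hF (rz _ (homOfLE hbV) y)
    exact ⟨Ub D b, hbV, hxb, s, hs⟩) fun W W' g k ⟨s, hs⟩ => ⟨rz _ k s, by rw [ev_res, hs, rz_comp]⟩
  exact isIso_of_mono_of_epi _

end Groth.Agent.H26.AffCompl
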